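import Cfsg.Agent.Lib.Spor.NineClasses.Defs

/-!
# The search over centraliser orders: part 1
-/

set_option autoImplicit false

namespace CfsgLib.Spor.NineClasses

theorem node2 : dfs 1 [13, 6, 6, 6, 5, 5] 9 390 [1, 13, 6, 78, 2, 26, 3, 39, 5, 65, 30, 390, 10, 130, 15, 195] = true := by decide +kernel

theorem node4 : dfs 1 [16, 6, 6, 6, 5, 5] 9 240 [1, 8, 2, 4, 6, 48, 12, 24, 2, 16, 4, 8, 3, 24, 6, 12, 5, 40, 10, 20, 30, 240, 60, 120, 10, 80, 20, 40, 15, 120, 30, 60] = true := by decide +kernel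

theorem node13 : dfs 1 [27, 6, 6, 6, 5, 5] 17 270 [1, 9, 3, 3, 6, 54, 18, 18, 2, 18, 6, 6, 3, 27, 9, 9, 5, 45, 15, 15, 30, 270, 90, 90, 10, 90, 30, 30, 15, 135, 45, 45] = true := by decide +kernel

theorem node14 : dfs 1 [28, 6, 6, 6, 5, 5] 27 420 [1, 14, 2, 7, 6, 84, 12, 42, 2, 28, 4, 14, 3, 42, 6, 21, 5, 70, 10, 35, 30, 420, 60, 210, 10, 140, 20, 70, 15, 210, 30, 105] = true := by decide +kernel

theorem node20 : dfs 1 [36, 6, 6, 6, 5, 5] 13 180 [1, 6, 2, 3, 6, 36, 12, 18, 2, 12, 4, 6, 3, 18, 6, 9, 5, 30, 10, 15, 30, 180, 60, 90, 10, 60, 20, 30, 15, 90, 30, 45] = true := by decide +kernel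

theorem node32 : dfs 1 [19, 7, 6, 6, 5, 5] 284 3990 [1, 19, 7, 133, 6, 114, 42, 798, 2, 38, 14, 266, 3, 57, 21, 399, 5, 95, 35, 665, 30, 570, 210, 3990, 10, 190, 70, 1330, 15, 285, 105, 1995] = true := by decide +kernel

theorem node35 : dfs 1 [24, 7, 6, 6, 5, 5] 69 840 [1, 4, 2, 2, 7, 28, 14, 14, 6, 24, 12, 12, 42, 168, 84, 84, 2, 8, 4, 4, 14, 56, 28, 28, 3, 12, 6, 6, 21, 84, 42, 42, 5, 20, 10, 10, 35, 140, 70, 70, 30, 120, 60, 60, 210, 840, 420, 420, 10, 40, 20, 20, 70, 280, 140, 140, 15, 60, 30, 30, 105, 420, 210, 210] = true := by decide +kernel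

theorem node43 : dfs 1 [9, 8, 6, 6, 5, 5] 11 360 [1, 3, 4, 12, 2, 6, 2, 6, 6, 18, 24, 72, 12, 36, 12, 36, 2, 6, 8, 24, 4, 12, 4, 12, 3, 9, 12, 36, 6, 18, 6, 18, 5, 15, 20, 60, 10, 30, 10, 30, 30, 90, 120, 360, 60, 180, 60, 180, 10, 30, 40, 120, 20, 60, 20, 60, 15, 45, 60, 180, 30, 90, 30, 90] = true := by decide +kernel

theorem node46 : dfs 1 [13, 8, 6, 6, 5, 5] 101 1560 [1, 13, 4, 52, 2, 26, 2, 26, 6, 78, 24, 312, 12, 156, 12, 156, 2, 26, 8, 104, 4, 52, 4, 52, 3, 39, 12, 156, 6, 78, 6, 78, 5, 65, 20, 260, 10, 130, 10, 130, 30, 390, 120, 1560, 60, 780, 60, 780, 10, 130, 40, 520, 20, 260, 20, 260, 15, 195, 60, 780, 30, 390, 30, 390] = true := by decide +kernel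

theorem node51 : dfs 1 [19, 8, 6, 6, 5, 5] 203 2280 [1, 19, 4, 76, 2, 38, 2, 38, 6, 114, 24, 456, 12, 228, 12, 228, 2, 38, 8, 152, 4, 76, 4, 76, 3, 57, 12, 228, 6, 114, 6, 114, 5, 95, 20, 380, 10, 190, 10, 190, 30, 570, 120, 2280, 60, 1140, 60, 1140, 10, 190, 40, 760, 20, 380, 20, 380, 15, 285, 60, 1140, 30, 570, 30, 570] = true := by decide +kernel

theorem node53 : dfs 1 [22, 8, 6, 6, 5, 5] 127 1320 [1, 11, 4, 44, 2, 22, 2, 22, 6, 66, 24, 264, 12, 132, 12, 132, 2, 22, 8, 88, 4, 44, 4, 44, 3, 33, 12, 132, 6, 66, 6, 66, 5, 55, 20, 220, 10, 110, 10, 110, 30, 330, 120, 1320, 60, 660, 60, 660, 10, 110, 40, 440, 20, 220, 20, 220, 15, 165, 60, 660, 30, 330, 30, 330] = true := by decide +kernel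

theorem node57 : dfs 1 [27, 8, 6, 6, 5, 5] 113 1080 [1, 9, 3, 3, 4, 36, 12, 12, 2, 18, 6, 6, 2, 18, 6, 6, 6, 54, 18, 18, 24, 216, 72, 72, 12, 108, 36, 36, 12, 108, 36, 36, 2, 18, 6, 6, 8, 72, 24, 24, 4, 36, 12, 12, 4, 36, 12, 12, 3, 27, 9, 9, 12, 108, 36, 36, 6, 54, 18, 18, 6, 54, 18, 18, 5, 45, 15, 15, 20, 180, 60, 60, 10, 90, 30, 30, 10, 90, 30, 30, 30, 270, 90, 90, 120, 1080, 360, 360, 60, 540, 180, 180, 60, 540, 180, 180, 10, 90, 30, 30, 40, 360, 120, 120, 20, 180, 60, 60, 20, 180, 60, 60, 15, 135, 45, 45, 60, 540, 180, 180, 30, 270, 90, 90, 30, 270, 90, 90] = true := by decide +kernel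

theorem node69 : dfs 1 [7, 7, 7, 6, 5, 5] 1 210 [1, 7, 6, 42, 2, 14, 3, 21, 5, 35, 30, 210, 10, 70, 15, 105] = true := by decide +kernel

theorem node70 : dfs 1 [8, 7, 7, 6, 5, 5] 19 840 [1, 4, 2, 2, 7, 28, 14, 14, 6, 24, 12, 12, 42, 168, 84, 84, 2, 8, 4, 4, 14, 56, 28, 28, 3, 12, 6, 6, 21, 84, 42, 42, 5, 20, 10, 10, 35, 140, 70, 70, 30, 120, 60, 60, 210, 840, 420, 420, 10, 40, 20, 20, 70, 280, 140, 140, 15, 60, 30, 30, 105, 420, 210, 210] = true := by decide +kernel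

theorem node72 : dfs 1 [11, 7, 7, 6, 5, 5] 131 2310 [1, 11, 7, 77, 6, 66, 42, 462, 2, 22, 14, 154, 3, 33, 21, 231, 5, 55, 35, 385, 30, 330, 210, 2310, 10, 110, 70, 770, 15, 165, 105, 1155] = true := by decide +kernel

theorem node79 : dfs 1 [22, 7, 7, 6, 5, 5] 236 2310 [1, 11, 7, 77, 6, 66, 42, 462, 2, 22, 14, 154, 3, 33, 21, 231, 5, 55, 35, 385, 30, 330, 210, 2310, 10, 110, 70, 770, 15, 165, 105, 1155] = true := by decide +kernel

theorem node87 : dfs 2 [11, 7, 6, 5, 5] 461 2310 [1, 11, 7, 77, 6, 66, 42, 462, 2, 22, 14, 154, 3, 33, 21, 231, 5, 55, 35, 385, 30, 330, 210, 2310, 10, 110, 70, 770, 15, 165, 105, 1155] = true := by decide +kernel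

theorem node94 : dfs 3 [9, 6, 5, 5] 29 90 [1, 3, 6, 18, 2, 6, 3, 9, 5, 15, 30, 90, 10, 30, 15, 45] = true := by decide +kernel

theorem node100 : dfs 3 [8, 7, 5, 5] 93 280 [1, 8, 2, 4, 7, 56, 14, 28, 5, 40, 10, 20, 35, 280, 70, 140] = true := by decide +kernel

theorem node101 : dfs 3 [9, 7, 5, 5] 109 315 [1, 9, 3, 3, 7, 63, 21, 21, 5, 45, 15, 15, 35, 315, 105, 105] = true := by decide +kernel

theorem node102 : dfs 3 [11, 7, 5, 5] 141 385 [1, 11, 7, 77, 5, 55, 35, 385] = true := by decide +kernel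

theorem node106 : dfs 4 [8, 5, 5] 19 40 [1, 8, 2, 4, 5, 40, 10, 20] = true := by decide +kernel

theorem node112 : dfs 1 [11, 6, 6, 6, 6, 5] 14 330 [1, 11, 6, 66, 2, 22, 3, 33, 5, 55, 30, 330, 10, 110, 15, 165] = true := by decide +kernel

theorem node113 : dfs 1 [12, 6, 6, 6, 6, 5] 3 60 [1, 2, 6, 12, 2, 4, 3, 6, 5, 10, 30, 60, 10, 20, 15, 30] = true := by decide +kernel

theorem node114 : dfs 1 [13, 6, 6, 6, 6, 5] 22 390 [1, 13, 6, 78, 2, 26, 3, 39, 5, 65, 30, 390, 10, 130, 15, 195] = true := by decide +kernel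

theorem node116 : dfs 1 [16, 6, 6, 6, 6, 5] 17 240 [1, 8, 2, 4, 6, 48, 12, 24, 2, 16, 4, 8, 3, 24, 6, 12, 5, 40, 10, 20, 30, 240, 60, 120, 10, 80, 20, 40, 15, 120, 30, 60] = true := by decide +kernel

theorem node120 : dfs 1 [21, 6, 6, 6, 6, 5] 18 210 [1, 7, 6, 42, 2, 14, 3, 21, 5, 35, 30, 210, 10, 70, 15, 105] = true := by decide +kernel

theorem node123 : dfs 1 [24, 6, 6, 6, 6, 5] 11 120 [1, 4, 2, 2, 6, 24, 12, 12, 2, 8, 4, 4, 3, 12, 6, 6, 5, 20, 10, 10, 30, 120, 60, 60, 10, 40, 20, 20, 15, 60, 30, 30] = true := by decide +kernel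

theorem node125 : dfs 1 [27, 6, 6, 6, 6, 5] 26 270 [1, 9, 3, 3, 6, 54, 18, 18, 2, 18, 6, 6, 3, 27, 9, 9, 5, 45, 15, 15, 30, 270, 90, 90, 10, 90, 30, 30, 15, 135, 45, 45] = true := by decide +kernel

theorem node127 : dfs 1 [29, 6, 6, 6, 6, 5] 86 870 [1, 29, 6, 174, 2, 58, 3, 87, 5, 145, 30, 870, 10, 290, 15, 435] = true := by decide +kernel

theorem node129 : dfs 1 [7, 7, 6, 6, 6, 5] 3 210 [1, 7, 6, 42, 2, 14, 3, 21, 5, 35, 30, 210, 10, 70, 15, 105] = true := by decide +kernel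

theorem node136 : dfs 1 [17, 7, 6, 6, 6, 5] 351 3570 [1, 17, 7, 119, 6, 102, 42, 714, 2, 34, 14, 238, 3, 51, 21, 357, 5, 85, 35, 595, 30, 510, 210, 3570, 10, 170, 70, 1190, 15, 255, 105, 1785] = true := by decide +kernel

theorem node140 : dfs 1 [23, 7, 6, 6, 6, 5] 549 4830 [1, 23, 7, 161, 6, 138, 42, 966, 2, 46, 14, 322, 3, 69, 21, 483, 5, 115, 35, 805, 30, 690, 210, 4830, 10, 230, 70, 1610, 15, 345, 105, 2415] = true := by decide +kernel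

theorem node144 : dfs 2 [9, 6, 6, 6, 5] 17 90 [1, 3, 6, 18, 2, 6, 3, 9, 5, 15, 30, 90, 10, 30, 15, 45] = true := by decide +kernel

theorem node147 : dfs 2 [13, 6, 6, 6, 5] 87 390 [1, 13, 6, 78, 2, 26, 3, 39, 5, 65, 30, 390, 10, 130, 15, 195] = true := by decide +kernel

theorem node149 : dfs 2 [16, 6, 6, 6, 5] 57 240 [1, 8, 2, 4, 6, 48, 12, 24, 2, 16, 4, 8, 3, 24, 6, 12, 5, 40, 10, 20, 30, 240, 60, 120, 10, 80, 20, 40, 15, 120, 30, 60] = true := by decide +kernel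

theorem node171 : dfs 1 [12, 6, 6, 6, 6, 6] 1 12 [1, 2, 6, 12, 2, 4, 3, 6] = true := by decide +kernel

theorem node172 : dfs 1 [13, 6, 6, 6, 6, 6] 7 78 [1, 13, 6, 78, 2, 26, 3, 39] = true := by decide +kernel

theorem node174 : dfs 1 [15, 6, 6, 6, 6, 6] 3 30 [1, 5, 6, 30, 2, 10, 3, 15] = true := by decide +kernel

theorem node183 : dfs 1 [24, 6, 6, 6, 6, 6] 3 24 [1, 4, 2, 2, 6, 24, 12, 12, 2, 8, 4, 4, 3, 12, 6, 6] = true := by decide +kernel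

theorem node189 : dfs 2 [11, 6, 6, 6, 6] 16 66 [1, 11, 6, 66, 2, 22, 3, 33] = true := by decide +kernel

theorem node191 : dfs 2 [13, 6, 6, 6, 6] 20 78 [1, 13, 6, 78, 2, 26, 3, 39] = true := by decide +kernel

theorem node192 : dfs 2 [14, 6, 6, 6, 6] 11 42 [1, 7, 6, 42, 2, 14, 3, 21] = true := by decide +kernel

theorem node199 : dfs 3 [11, 6, 6, 6] 27 66 [1, 11, 6, 66, 2, 22, 3, 33] = true := by decide +kernel

theorem node200 : dfs 3 [12, 6, 6, 6] 5 12 [1, 2, 6, 12, 2, 4, 3, 6] = true := by decide +kernel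

theorem node209 : dfs 5 [9, 6] 13 18 [1, 3, 6, 18, 2, 6, 3, 9] = true := by decide +kernel

theorem node211 : dfs 6 [7] 6 7 [1, 7] = true := by decide +kernel

theorem node212 : dfs 6 [8] 7 8 [1, 8, 2, 4] = true := by decide +kernel

end CfsgLib.Spor.NineClasses
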