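import Cfsg.Agent.Lib.Spor.NineClasses.Defs

/-!
# The search over centraliser orders: part 2
-/

set_option autoImplicit false

namespace CfsgLib.Spor.NineClasses

theorem node6 : dfs 1 [18, 6, 6, 6, 5, 5] 4 90 [1, 3, 6, 18, 2, 6, 3, 9, 5, 15, 30, 90, 10, 30, 15, 45] = true := by decide +kernel

theorem node11 : dfs 1 [24, 6, 6, 6, 5, 5] 7 120 [1, 4, 2, 2, 6, 24, 12, 12, 2, 8, 4, 4, 3, 12, 6, 6, 5, 20, 10, 10, 30, 120, 60, 60, 10, 40, 20, 20, 15, 60, 30, 30] = true := by decide +kernel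

theorem node18 : dfs 1 [33, 6, 6, 6, 5, 5] 23 330 [1, 11, 6, 66, 2, 22, 3, 33, 5, 55, 30, 330, 10, 110, 15, 165] = true := by decide +kernel

theorem node38 : dfs 1 [29, 7, 6, 6, 5, 5] 544 6090 [1, 29, 7, 203, 6, 174, 42, 1218, 2, 58, 14, 406, 3, 87, 21, 609, 5, 145, 35, 1015, 30, 870, 210, 6090, 10, 290, 70, 2030, 15, 435, 105, 3045] = true := by decide +kernel

theorem node40 : dfs 1 [32, 7, 6, 6, 5, 5] 311 3360 [1, 16, 2, 8, 4, 4, 7, 112, 14, 56, 28, 28, 6, 96, 12, 48, 24, 24, 42, 672, 84, 336, 168, 168, 2, 32, 4, 16, 8, 8, 14, 224, 28, 112, 56, 56, 3, 48, 6, 24, 12, 12, 21, 336, 42, 168, 84, 84, 5, 80, 10, 40, 20, 20, 35, 560, 70, 280, 140, 140, 30, 480, 60, 240, 120, 120, 210, 3360, 420, 1680, 840, 840, 10, 160, 20, 80, 40, 40, 70, 1120, 140, 560, 280, 280, 15, 240, 30, 120, 60, 60, 105, 1680, 210, 840, 420, 420] = true := by decide +kernel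

theorem node42 : dfs 1 [8, 8, 6, 6, 5, 5] 2 120 [1, 4, 2, 2, 6, 24, 12, 12, 2, 8, 4, 4, 3, 12, 6, 6, 5, 20, 10, 10, 30, 120, 60, 60, 10, 40, 20, 20, 15, 60, 30, 30] = true := by decide +kernel

theorem node45 : dfs 1 [12, 8, 6, 6, 5, 5] 7 120 [1, 4, 2, 2, 6, 24, 12, 12, 2, 8, 4, 4, 3, 12, 6, 6, 5, 20, 10, 10, 30, 120, 60, 60, 10, 40, 20, 20, 15, 60, 30, 30] = true := by decide +kernel

theorem node48 : dfs 1 [16, 8, 6, 6, 5, 5] 19 240 [1, 2, 4, 8, 2, 4, 2, 4, 6, 12, 24, 48, 12, 24, 12, 24, 2, 4, 8, 16, 4, 8, 4, 8, 3, 6, 12, 24, 6, 12, 6, 12, 5, 10, 20, 40, 10, 20, 10, 20, 30, 60, 120, 240, 60, 120, 60, 120, 10, 20, 40, 80, 20, 40, 20, 40, 15, 30, 60, 120, 30, 60, 30, 60] = true := by decide +kernel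

theorem node50 : dfs 1 [18, 8, 6, 6, 5, 5] 31 360 [1, 3, 4, 12, 2, 6, 2, 6, 6, 18, 24, 72, 12, 36, 12, 36, 2, 6, 8, 24, 4, 12, 4, 12, 3, 9, 12, 36, 6, 18, 6, 18, 5, 15, 20, 60, 10, 30, 10, 30, 30, 90, 120, 360, 60, 180, 60, 180, 10, 30, 40, 120, 20, 60, 20, 60, 15, 45, 60, 180, 30, 90, 30, 90] = true := by decide +kernel

theorem node61 : dfs 2 [11, 6, 6, 5, 5] 58 330 [1, 11, 6, 66, 2, 22, 3, 33, 5, 55, 30, 330, 10, 110, 15, 165] = true := by decide +kernel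

theorem node66 : dfs 2 [17, 6, 6, 5, 5] 106 510 [1, 17, 6, 102, 2, 34, 3, 51, 5, 85, 30, 510, 10, 170, 15, 255] = true := by decide +kernel

theorem node67 : dfs 2 [18, 6, 6, 5, 5] 19 90 [1, 3, 6, 18, 2, 6, 3, 9, 5, 15, 30, 90, 10, 30, 15, 45] = true := by decide +kernel

theorem node73 : dfs 1 [12, 7, 7, 6, 5, 5] 27 420 [1, 2, 7, 14, 6, 12, 42, 84, 2, 4, 14, 28, 3, 6, 21, 42, 5, 10, 35, 70, 30, 60, 210, 420, 10, 20, 70, 140, 15, 30, 105, 210] = true := by decide +kernel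

theorem node88 : dfs 2 [12, 7, 6, 5, 5] 87 420 [1, 2, 7, 14, 6, 12, 42, 84, 2, 4, 14, 28, 3, 6, 21, 42, 5, 10, 35, 70, 30, 60, 210, 420, 10, 20, 70, 140, 15, 30, 105, 210] = true := by decide +kernel

theorem node91 : dfs 2 [17, 7, 6, 5, 5] 827 3570 [1, 17, 7, 119, 6, 102, 42, 714, 2, 34, 14, 238, 3, 51, 21, 357, 5, 85, 35, 595, 30, 510, 210, 3570, 10, 170, 70, 1190, 15, 255, 105, 1785] = true := by decide +kernel

theorem node108 : dfs 4 [11, 5, 5] 28 55 [1, 11, 5, 55] = true := by decide +kernel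

theorem node110 : dfs 1 [8, 6, 6, 6, 6, 5] 1 120 [1, 4, 2, 2, 6, 24, 12, 12, 2, 8, 4, 4, 3, 12, 6, 6, 5, 20, 10, 10, 30, 120, 60, 60, 10, 40, 20, 20, 15, 60, 30, 30] = true := by decide +kernel

theorem node115 : dfs 1 [14, 6, 6, 6, 6, 5] 13 210 [1, 7, 6, 42, 2, 14, 3, 21, 5, 35, 30, 210, 10, 70, 15, 105] = true := by decide +kernel

theorem node122 : dfs 1 [23, 6, 6, 6, 6, 5] 62 690 [1, 23, 6, 138, 2, 46, 3, 69, 5, 115, 30, 690, 10, 230, 15, 345] = true := by decide +kernel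

theorem node130 : dfs 1 [8, 7, 6, 6, 6, 5] 27 840 [1, 4, 2, 2, 7, 28, 14, 14, 6, 24, 12, 12, 42, 168, 84, 84, 2, 8, 4, 4, 14, 56, 28, 28, 3, 12, 6, 6, 21, 84, 42, 42, 5, 20, 10, 10, 35, 140, 70, 70, 30, 120, 60, 60, 210, 840, 420, 420, 10, 40, 20, 20, 70, 280, 140, 140, 15, 60, 30, 30, 105, 420, 210, 210] = true := by decide +kernel

theorem node131 : dfs 1 [9, 7, 6, 6, 6, 5] 29 630 [1, 3, 7, 21, 6, 18, 42, 126, 2, 6, 14, 42, 3, 9, 21, 63, 5, 15, 35, 105, 30, 90, 210, 630, 10, 30, 70, 210, 15, 45, 105, 315] = true := by decide +kernel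

theorem node135 : dfs 1 [16, 7, 6, 6, 6, 5] 159 1680 [1, 8, 2, 4, 7, 56, 14, 28, 6, 48, 12, 24, 42, 336, 84, 168, 2, 16, 4, 8, 14, 112, 28, 56, 3, 24, 6, 12, 21, 168, 42, 84, 5, 40, 10, 20, 35, 280, 70, 140, 30, 240, 60, 120, 210, 1680, 420, 840, 10, 80, 20, 40, 70, 560, 140, 280, 15, 120, 30, 60, 105, 840, 210, 420] = true := by decide +kernel

theorem node138 : dfs 1 [19, 7, 6, 6, 6, 5] 417 3990 [1, 19, 7, 133, 6, 114, 42, 798, 2, 38, 14, 266, 3, 57, 21, 399, 5, 95, 35, 665, 30, 570, 210, 3990, 10, 190, 70, 1330, 15, 285, 105, 1995] = true := by decide +kernel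

theorem node145 : dfs 2 [11, 6, 6, 6, 5] 69 330 [1, 11, 6, 66, 2, 22, 3, 33, 5, 55, 30, 330, 10, 110, 15, 165] = true := by decide +kernel

theorem node146 : dfs 2 [12, 6, 6, 6, 5] 13 60 [1, 2, 6, 12, 2, 4, 3, 6, 5, 10, 30, 60, 10, 20, 15, 30] = true := by decide +kernel

theorem node148 : dfs 2 [14, 6, 6, 6, 5] 48 210 [1, 7, 6, 42, 2, 14, 3, 21, 5, 35, 30, 210, 10, 70, 15, 105] = true := by decide +kernel

theorem node155 : dfs 3 [12, 6, 6, 5] 23 60 [1, 2, 6, 12, 2, 4, 3, 6, 5, 10, 30, 60, 10, 20, 15, 30] = true := by decide +kernel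

theorem node157 : dfs 4 [7, 6, 5] 103 210 [1, 7, 6, 42, 2, 14, 3, 21, 5, 35, 30, 210, 10, 70, 15, 105] = true := by decide +kernel

theorem node158 : dfs 4 [8, 6, 5] 61 120 [1, 4, 2, 2, 6, 24, 12, 12, 2, 8, 4, 4, 3, 12, 6, 6, 5, 20, 10, 10, 30, 120, 60, 60, 10, 40, 20, 20, 15, 60, 30, 30] = true := by decide +kernel

theorem node159 : dfs 4 [9, 6, 5] 47 90 [1, 3, 6, 18, 2, 6, 3, 9, 5, 15, 30, 90, 10, 30, 15, 45] = true := by decide +kernel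

theorem node160 : dfs 4 [11, 6, 5] 179 330 [1, 11, 6, 66, 2, 22, 3, 33, 5, 55, 30, 330, 10, 110, 15, 165] = true := by decide +kernel

theorem node163 : dfs 5 [8, 5] 27 40 [1, 8, 2, 4, 5, 40, 10, 20] = true := by decide +kernel

theorem node166 : dfs 1 [7, 6, 6, 6, 6, 6] 1 42 [1, 7, 6, 42, 2, 14, 3, 21] = true := by decide +kernel

theorem node168 : dfs 1 [9, 6, 6, 6, 6, 6] 1 18 [1, 3, 6, 18, 2, 6, 3, 9] = true := by decide +kernel

theorem node173 : dfs 1 [14, 6, 6, 6, 6, 6] 4 42 [1, 7, 6, 42, 2, 14, 3, 21] = true := by decide +kernel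

theorem node175 : dfs 1 [16, 6, 6, 6, 6, 6] 5 48 [1, 8, 2, 4, 6, 48, 12, 24, 2, 16, 4, 8, 3, 24, 6, 12] = true := by decide +kernel

theorem node177 : dfs 1 [18, 6, 6, 6, 6, 6] 2 18 [1, 3, 6, 18, 2, 6, 3, 9] = true := by decide +kernel

theorem node179 : dfs 1 [20, 6, 6, 6, 6, 6] 7 60 [1, 10, 2, 5, 6, 60, 12, 30, 2, 20, 4, 10, 3, 30, 6, 15] = true := by decide +kernel

theorem node180 : dfs 1 [21, 6, 6, 6, 6, 6] 5 42 [1, 7, 6, 42, 2, 14, 3, 21] = true := by decide +kernel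

theorem node181 : dfs 1 [22, 6, 6, 6, 6, 6] 8 66 [1, 11, 6, 66, 2, 22, 3, 33] = true := by decide +kernel

theorem node182 : dfs 1 [23, 6, 6, 6, 6, 6] 17 138 [1, 23, 6, 138, 2, 46, 3, 69] = true := by decide +kernel

theorem node185 : dfs 2 [7, 6, 6, 6, 6] 8 42 [1, 7, 6, 42, 2, 14, 3, 21] = true := by decide +kernel

theorem node186 : dfs 2 [8, 6, 6, 6, 6] 5 24 [1, 4, 2, 2, 6, 24, 12, 12, 2, 8, 4, 4, 3, 12, 6, 6] = true := by decide +kernel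

theorem node188 : dfs 2 [10, 6, 6, 6, 6] 7 30 [1, 5, 6, 30, 2, 10, 3, 15] = true := by decide +kernel

theorem node190 : dfs 2 [12, 6, 6, 6, 6] 3 12 [1, 2, 6, 12, 2, 4, 3, 6] = true := by decide +kernel

theorem node197 : dfs 3 [9, 6, 6, 6] 7 18 [1, 3, 6, 18, 2, 6, 3, 9] = true := by decide +kernel

theorem node204 : dfs 4 [9, 6, 6] 10 18 [1, 3, 6, 18, 2, 6, 3, 9] = true := by decide +kernel

theorem node207 : dfs 5 [7, 6] 29 42 [1, 7, 6, 42, 2, 14, 3, 21] = true := by decide +kernel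

end CfsgLib.Spor.NineClasses
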