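import Cfsg.Agent.Lib.Spor.NineClasses.Defs

/-!
# The search over centraliser orders: part 3
-/

set_option autoImplicit false

namespace CfsgLib.Spor.NineClasses

theorem node5 : dfs 1 [17, 6, 6, 6, 5, 5] 21 510 [1, 17, 6, 102, 2, 34, 3, 51, 5, 85, 30, 510, 10, 170, 15, 255] = true := by decide +kernel

theorem node7 : dfs 1 [19, 6, 6, 6, 5, 5] 27 570 [1, 19, 6, 114, 2, 38, 3, 57, 5, 95, 30, 570, 10, 190, 15, 285] = true := by decide +kernel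

theorem node8 : dfs 1 [21, 6, 6, 6, 5, 5] 11 210 [1, 7, 6, 42, 2, 14, 3, 21, 5, 35, 30, 210, 10, 70, 15, 105] = true := by decide +kernel

theorem node10 : dfs 1 [23, 6, 6, 6, 5, 5] 39 690 [1, 23, 6, 138, 2, 46, 3, 69, 5, 115, 30, 690, 10, 230, 15, 345] = true := by decide +kernel

theorem node12 : dfs 1 [26, 6, 6, 6, 5, 5] 24 390 [1, 13, 6, 78, 2, 26, 3, 39, 5, 65, 30, 390, 10, 130, 15, 195] = true := by decide +kernel

theorem node16 : dfs 1 [31, 6, 6, 6, 5, 5] 63 930 [1, 31, 6, 186, 2, 62, 3, 93, 5, 155, 30, 930, 10, 310, 15, 465] = true := by decide +kernel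

theorem node22 : dfs 1 [38, 6, 6, 6, 5, 5] 42 570 [1, 19, 6, 114, 2, 38, 3, 57, 5, 95, 30, 570, 10, 190, 15, 285] = true := by decide +kernel

theorem node25 : dfs 1 [9, 7, 6, 6, 5, 5] 8 630 [1, 3, 7, 21, 6, 18, 42, 126, 2, 6, 14, 42, 3, 9, 21, 63, 5, 15, 35, 105, 30, 90, 210, 630, 10, 30, 70, 210, 15, 45, 105, 315] = true := by decide +kernel

theorem node26 : dfs 1 [11, 7, 6, 6, 5, 5] 76 2310 [1, 11, 7, 77, 6, 66, 42, 462, 2, 22, 14, 154, 3, 33, 21, 231, 5, 55, 35, 385, 30, 330, 210, 2310, 10, 110, 70, 770, 15, 165, 105, 1155] = true := by decide +kernel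

theorem node27 : dfs 1 [12, 7, 6, 6, 5, 5] 17 420 [1, 2, 7, 14, 6, 12, 42, 84, 2, 4, 14, 28, 3, 6, 21, 42, 5, 10, 35, 70, 30, 60, 210, 420, 10, 20, 70, 140, 15, 30, 105, 210] = true := by decide +kernel

theorem node29 : dfs 1 [16, 7, 6, 6, 5, 5] 103 1680 [1, 8, 2, 4, 7, 56, 14, 28, 6, 48, 12, 24, 42, 336, 84, 168, 2, 16, 4, 8, 14, 112, 28, 56, 3, 24, 6, 12, 21, 168, 42, 84, 5, 40, 10, 20, 35, 280, 70, 140, 30, 240, 60, 120, 210, 1680, 420, 840, 10, 80, 20, 40, 70, 560, 140, 280, 15, 120, 30, 60, 105, 840, 210, 420] = true := by decide +kernel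

theorem node30 : dfs 1 [17, 7, 6, 6, 5, 5] 232 3570 [1, 17, 7, 119, 6, 102, 42, 714, 2, 34, 14, 238, 3, 51, 21, 357, 5, 85, 35, 595, 30, 510, 210, 3570, 10, 170, 70, 1190, 15, 255, 105, 1785] = true := by decide +kernel

theorem node37 : dfs 1 [27, 7, 6, 6, 5, 5] 164 1890 [1, 9, 3, 3, 7, 63, 21, 21, 6, 54, 18, 18, 42, 378, 126, 126, 2, 18, 6, 6, 14, 126, 42, 42, 3, 27, 9, 9, 21, 189, 63, 63, 5, 45, 15, 15, 35, 315, 105, 105, 30, 270, 90, 90, 210, 1890, 630, 630, 10, 90, 30, 30, 70, 630, 210, 210, 15, 135, 45, 45, 105, 945, 315, 315] = true := by decide +kernel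

theorem node52 : dfs 1 [21, 8, 6, 6, 5, 5] 79 840 [1, 7, 4, 28, 2, 14, 2, 14, 6, 42, 24, 168, 12, 84, 12, 84, 2, 14, 8, 56, 4, 28, 4, 28, 3, 21, 12, 84, 6, 42, 6, 42, 5, 35, 20, 140, 10, 70, 10, 70, 30, 210, 120, 840, 60, 420, 60, 420, 10, 70, 40, 280, 20, 140, 20, 140, 15, 105, 60, 420, 30, 210, 30, 210] = true := by decide +kernel

theorem node54 : dfs 1 [23, 8, 6, 6, 5, 5] 271 2760 [1, 23, 4, 92, 2, 46, 2, 46, 6, 138, 24, 552, 12, 276, 12, 276, 2, 46, 8, 184, 4, 92, 4, 92, 3, 69, 12, 276, 6, 138, 6, 138, 5, 115, 20, 460, 10, 230, 10, 230, 30, 690, 120, 2760, 60, 1380, 60, 1380, 10, 230, 40, 920, 20, 460, 20, 460, 15, 345, 60, 1380, 30, 690, 30, 690] = true := by decide +kernel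

theorem node56 : dfs 1 [26, 8, 6, 6, 5, 5] 161 1560 [1, 13, 4, 52, 2, 26, 2, 26, 6, 78, 24, 312, 12, 156, 12, 156, 2, 26, 8, 104, 4, 52, 4, 52, 3, 39, 12, 156, 6, 78, 6, 78, 5, 65, 20, 260, 10, 130, 10, 130, 30, 390, 120, 1560, 60, 780, 60, 780, 10, 130, 40, 520, 20, 260, 20, 260, 15, 195, 60, 780, 30, 390, 30, 390] = true := by decide +kernel

theorem node58 : dfs 1 [28, 8, 6, 6, 5, 5] 89 840 [1, 7, 4, 28, 2, 14, 2, 14, 6, 42, 24, 168, 12, 84, 12, 84, 2, 14, 8, 56, 4, 28, 4, 28, 3, 21, 12, 84, 6, 42, 6, 42, 5, 35, 20, 140, 10, 70, 10, 70, 30, 210, 120, 840, 60, 420, 60, 420, 10, 70, 40, 280, 20, 140, 20, 140, 15, 105, 60, 420, 30, 210, 30, 210] = true := by decide +kernel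

theorem node60 : dfs 2 [9, 6, 6, 5, 5] 14 90 [1, 3, 6, 18, 2, 6, 3, 9, 5, 15, 30, 90, 10, 30, 15, 45] = true := by decide +kernel

theorem node64 : dfs 2 [14, 6, 6, 5, 5] 41 210 [1, 7, 6, 42, 2, 14, 3, 21, 5, 35, 30, 210, 10, 70, 15, 105] = true := by decide +kernel

theorem node65 : dfs 2 [16, 6, 6, 5, 5] 49 240 [1, 8, 2, 4, 6, 48, 12, 24, 2, 16, 4, 8, 3, 24, 6, 12, 5, 40, 10, 20, 30, 240, 60, 120, 10, 80, 20, 40, 15, 120, 30, 60] = true := by decide +kernel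

theorem node75 : dfs 1 [16, 7, 7, 6, 5, 5] 143 1680 [1, 8, 2, 4, 7, 56, 14, 28, 6, 48, 12, 24, 42, 336, 84, 168, 2, 16, 4, 8, 14, 112, 28, 56, 3, 24, 6, 12, 21, 168, 42, 84, 5, 40, 10, 20, 35, 280, 70, 140, 30, 240, 60, 120, 210, 1680, 420, 840, 10, 80, 20, 40, 70, 560, 140, 280, 15, 120, 30, 60, 105, 840, 210, 420] = true := by decide +kernel

theorem node76 : dfs 1 [17, 7, 7, 6, 5, 5] 317 3570 [1, 17, 7, 119, 6, 102, 42, 714, 2, 34, 14, 238, 3, 51, 21, 357, 5, 85, 35, 595, 30, 510, 210, 3570, 10, 170, 70, 1190, 15, 255, 105, 1785] = true := by decide +kernel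

theorem node80 : dfs 1 [23, 7, 7, 6, 5, 5] 503 4830 [1, 23, 7, 161, 6, 138, 42, 966, 2, 46, 14, 322, 3, 69, 21, 483, 5, 115, 35, 805, 30, 690, 210, 4830, 10, 230, 70, 1610, 15, 345, 105, 2415] = true := by decide +kernel

theorem node86 : dfs 2 [9, 7, 6, 5, 5] 113 630 [1, 3, 7, 21, 6, 18, 42, 126, 2, 6, 14, 42, 3, 9, 21, 63, 5, 15, 35, 105, 30, 90, 210, 630, 10, 30, 70, 210, 15, 45, 105, 315] = true := by decide +kernel

theorem node89 : dfs 2 [13, 7, 6, 5, 5] 583 2730 [1, 13, 7, 91, 6, 78, 42, 546, 2, 26, 14, 182, 3, 39, 21, 273, 5, 65, 35, 455, 30, 390, 210, 2730, 10, 130, 70, 910, 15, 195, 105, 1365] = true := by decide +kernel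

theorem node90 : dfs 2 [16, 7, 6, 5, 5] 383 1680 [1, 8, 2, 4, 7, 56, 14, 28, 6, 48, 12, 24, 42, 336, 84, 168, 2, 16, 4, 8, 14, 112, 28, 56, 3, 24, 6, 12, 21, 168, 42, 84, 5, 40, 10, 20, 35, 280, 70, 140, 30, 240, 60, 120, 210, 1680, 420, 840, 10, 80, 20, 40, 70, 560, 140, 280, 15, 120, 30, 60, 105, 840, 210, 420] = true := by decide +kernel

theorem node93 : dfs 3 [8, 6, 5, 5] 37 120 [1, 4, 2, 2, 6, 24, 12, 12, 2, 8, 4, 4, 3, 12, 6, 6, 5, 20, 10, 10, 30, 120, 60, 60, 10, 40, 20, 20, 15, 60, 30, 30] = true := by decide +kernel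

theorem node99 : dfs 3 [7, 7, 5, 5] 11 35 [1, 7, 5, 35] = true := by decide +kernel

theorem node103 : dfs 3 [12, 7, 5, 5] 157 420 [1, 12, 2, 6, 3, 4, 7, 84, 14, 42, 21, 28, 5, 60, 10, 30, 15, 20, 35, 420, 70, 210, 105, 140] = true := by decide +kernel

theorem node111 : dfs 1 [9, 6, 6, 6, 6, 5] 2 90 [1, 3, 6, 18, 2, 6, 3, 9, 5, 15, 30, 90, 10, 30, 15, 45] = true := by decide +kernel

theorem node117 : dfs 1 [17, 6, 6, 6, 6, 5] 38 510 [1, 17, 6, 102, 2, 34, 3, 51, 5, 85, 30, 510, 10, 170, 15, 255] = true := by decide +kernel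

theorem node118 : dfs 1 [18, 6, 6, 6, 6, 5] 7 90 [1, 3, 6, 18, 2, 6, 3, 9, 5, 15, 30, 90, 10, 30, 15, 45] = true := by decide +kernel

theorem node119 : dfs 1 [19, 6, 6, 6, 6, 5] 46 570 [1, 19, 6, 114, 2, 38, 3, 57, 5, 95, 30, 570, 10, 190, 15, 285] = true := by decide +kernel

theorem node121 : dfs 1 [22, 6, 6, 6, 6, 5] 29 330 [1, 11, 6, 66, 2, 22, 3, 33, 5, 55, 30, 330, 10, 110, 15, 165] = true := by decide +kernel

theorem node132 : dfs 1 [11, 7, 6, 6, 6, 5] 153 2310 [1, 11, 7, 77, 6, 66, 42, 462, 2, 22, 14, 154, 3, 33, 21, 231, 5, 55, 35, 385, 30, 330, 210, 2310, 10, 110, 70, 770, 15, 165, 105, 1155] = true := by decide +kernel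

theorem node133 : dfs 1 [12, 7, 6, 6, 6, 5] 31 420 [1, 2, 7, 14, 6, 12, 42, 84, 2, 4, 14, 28, 3, 6, 21, 42, 5, 10, 35, 70, 30, 60, 210, 420, 10, 20, 70, 140, 15, 30, 105, 210] = true := by decide +kernel

theorem node134 : dfs 1 [13, 7, 6, 6, 6, 5] 219 2730 [1, 13, 7, 91, 6, 78, 42, 546, 2, 26, 14, 182, 3, 39, 21, 273, 5, 65, 35, 455, 30, 390, 210, 2730, 10, 130, 70, 910, 15, 195, 105, 1365] = true := by decide +kernel

theorem node139 : dfs 1 [22, 7, 6, 6, 6, 5] 258 2310 [1, 11, 7, 77, 6, 66, 42, 462, 2, 22, 14, 154, 3, 33, 21, 231, 5, 55, 35, 385, 30, 330, 210, 2310, 10, 110, 70, 770, 15, 165, 105, 1155] = true := by decide +kernel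

theorem node141 : dfs 1 [24, 7, 6, 6, 6, 5] 97 840 [1, 4, 2, 2, 7, 28, 14, 14, 6, 24, 12, 12, 42, 168, 84, 84, 2, 8, 4, 4, 14, 56, 28, 28, 3, 12, 6, 6, 21, 84, 42, 42, 5, 20, 10, 10, 35, 140, 70, 70, 30, 120, 60, 60, 210, 840, 420, 420, 10, 40, 20, 20, 70, 280, 140, 140, 15, 60, 30, 30, 105, 420, 210, 210] = true := by decide +kernel

theorem node143 : dfs 2 [8, 6, 6, 6, 5] 21 120 [1, 4, 2, 2, 6, 24, 12, 12, 2, 8, 4, 4, 3, 12, 6, 6, 5, 20, 10, 10, 30, 120, 60, 60, 10, 40, 20, 20, 15, 60, 30, 30] = true := by decide +kernel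

theorem node152 : dfs 3 [8, 6, 6, 5] 41 120 [1, 4, 2, 2, 6, 24, 12, 12, 2, 8, 4, 4, 3, 12, 6, 6, 5, 20, 10, 10, 30, 120, 60, 60, 10, 40, 20, 20, 15, 60, 30, 30] = true := by decide +kernel

theorem node154 : dfs 3 [11, 6, 6, 5] 124 330 [1, 11, 6, 66, 2, 22, 3, 33, 5, 55, 30, 330, 10, 110, 15, 165] = true := by decide +kernel

theorem node167 : dfs 1 [8, 6, 6, 6, 6, 6] 1 24 [1, 4, 2, 2, 6, 24, 12, 12, 2, 8, 4, 4, 3, 12, 6, 6] = true := by decide +kernel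

theorem node176 : dfs 1 [17, 6, 6, 6, 6, 6] 11 102 [1, 17, 6, 102, 2, 34, 3, 51] = true := by decide +kernel

theorem node178 : dfs 1 [19, 6, 6, 6, 6, 6] 13 114 [1, 19, 6, 114, 2, 38, 3, 57] = true := by decide +kernel

theorem node193 : dfs 2 [15, 6, 6, 6, 6] 8 30 [1, 5, 6, 30, 2, 10, 3, 15] = true := by decide +kernel

theorem node203 : dfs 4 [8, 6, 6] 13 24 [1, 4, 2, 2, 6, 24, 12, 12, 2, 8, 4, 4, 3, 12, 6, 6] = true := by decide +kernel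

theorem node205 : dfs 4 [10, 6, 6] 17 30 [1, 5, 6, 30, 2, 10, 3, 15] = true := by decide +kernel

theorem node213 : dfs 6 [9] 8 9 [1, 9, 3, 3] = true := by decide +kernel

end CfsgLib.Spor.NineClasses
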