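import Cfsg.Agent.Lib.Spor.NineClasses.Defs

/-!
# The search over centraliser orders: part 4
-/

set_option autoImplicit false

namespace CfsgLib.Spor.NineClasses

theorem node0 : dfs 1 [11, 6, 6, 6, 5, 5] 3 330 [1, 11, 6, 66, 2, 22, 3, 33, 5, 55, 30, 330, 10, 110, 15, 165] = true := by decide +kernel

theorem node1 : dfs 1 [12, 6, 6, 6, 5, 5] 1 60 [1, 2, 6, 12, 2, 4, 3, 6, 5, 10, 30, 60, 10, 20, 15, 30] = true := by decide +kernel

theorem node3 : dfs 1 [14, 6, 6, 6, 5, 5] 6 210 [1, 7, 6, 42, 2, 14, 3, 21, 5, 35, 30, 210, 10, 70, 15, 105] = true := by decide +kernel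

theorem node9 : dfs 1 [22, 6, 6, 6, 5, 5] 18 330 [1, 11, 6, 66, 2, 22, 3, 33, 5, 55, 30, 330, 10, 110, 15, 165] = true := by decide +kernel

theorem node15 : dfs 1 [29, 6, 6, 6, 5, 5] 57 870 [1, 29, 6, 174, 2, 58, 3, 87, 5, 145, 30, 870, 10, 290, 15, 435] = true := by decide +kernel

theorem node17 : dfs 1 [32, 6, 6, 6, 5, 5] 33 480 [1, 16, 2, 8, 4, 4, 6, 96, 12, 48, 24, 24, 2, 32, 4, 16, 8, 8, 3, 48, 6, 24, 12, 12, 5, 80, 10, 40, 20, 20, 30, 480, 60, 240, 120, 120, 10, 160, 20, 80, 40, 40, 15, 240, 30, 120, 60, 60] = true := by decide +kernel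

theorem node19 : dfs 1 [34, 6, 6, 6, 5, 5] 36 510 [1, 17, 6, 102, 2, 34, 3, 51, 5, 85, 30, 510, 10, 170, 15, 255] = true := by decide +kernel

theorem node21 : dfs 1 [37, 6, 6, 6, 5, 5] 81 1110 [1, 37, 6, 222, 2, 74, 3, 111, 5, 185, 30, 1110, 10, 370, 15, 555] = true := by decide +kernel

theorem node23 : dfs 1 [39, 6, 6, 6, 5, 5] 29 390 [1, 13, 6, 78, 2, 26, 3, 39, 5, 65, 30, 390, 10, 130, 15, 195] = true := by decide +kernel

theorem node28 : dfs 1 [13, 7, 6, 6, 5, 5] 128 2730 [1, 13, 7, 91, 6, 78, 42, 546, 2, 26, 14, 182, 3, 39, 21, 273, 5, 65, 35, 455, 30, 390, 210, 2730, 10, 130, 70, 910, 15, 195, 105, 1365] = true := by decide +kernel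

theorem node31 : dfs 1 [18, 7, 6, 6, 5, 5] 43 630 [1, 3, 7, 21, 6, 18, 42, 126, 2, 6, 14, 42, 3, 9, 21, 63, 5, 15, 35, 105, 30, 90, 210, 630, 10, 30, 70, 210, 15, 45, 105, 315] = true := by decide +kernel

theorem node33 : dfs 1 [22, 7, 6, 6, 5, 5] 181 2310 [1, 11, 7, 77, 6, 66, 42, 462, 2, 22, 14, 154, 3, 33, 21, 231, 5, 55, 35, 385, 30, 330, 210, 2310, 10, 110, 70, 770, 15, 165, 105, 1155] = true := by decide +kernel

theorem node34 : dfs 1 [23, 7, 6, 6, 5, 5] 388 4830 [1, 23, 7, 161, 6, 138, 42, 966, 2, 46, 14, 322, 3, 69, 21, 483, 5, 115, 35, 805, 30, 690, 210, 4830, 10, 230, 70, 1610, 15, 345, 105, 2415] = true := by decide +kernel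

theorem node36 : dfs 1 [26, 7, 6, 6, 5, 5] 233 2730 [1, 13, 7, 91, 6, 78, 42, 546, 2, 26, 14, 182, 3, 39, 21, 273, 5, 65, 35, 455, 30, 390, 210, 2730, 10, 130, 70, 910, 15, 195, 105, 1365] = true := by decide +kernel

theorem node39 : dfs 1 [31, 7, 6, 6, 5, 5] 596 6510 [1, 31, 7, 217, 6, 186, 42, 1302, 2, 62, 14, 434, 3, 93, 21, 651, 5, 155, 35, 1085, 30, 930, 210, 6510, 10, 310, 70, 2170, 15, 465, 105, 3255] = true := by decide +kernel

theorem node44 : dfs 1 [11, 8, 6, 6, 5, 5] 67 1320 [1, 11, 4, 44, 2, 22, 2, 22, 6, 66, 24, 264, 12, 132, 12, 132, 2, 22, 8, 88, 4, 44, 4, 44, 3, 33, 12, 132, 6, 66, 6, 66, 5, 55, 20, 220, 10, 110, 10, 110, 30, 330, 120, 1320, 60, 660, 60, 660, 10, 110, 40, 440, 20, 220, 20, 220, 15, 165, 60, 660, 30, 330, 30, 330] = true := by decide +kernel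

theorem node47 : dfs 1 [14, 8, 6, 6, 5, 5] 59 840 [1, 7, 4, 28, 2, 14, 2, 14, 6, 42, 24, 168, 12, 84, 12, 84, 2, 14, 8, 56, 4, 28, 4, 28, 3, 21, 12, 84, 6, 42, 6, 42, 5, 35, 20, 140, 10, 70, 10, 70, 30, 210, 120, 840, 60, 420, 60, 420, 10, 70, 40, 280, 20, 140, 20, 140, 15, 105, 60, 420, 30, 210, 30, 210] = true := by decide +kernel

theorem node49 : dfs 1 [17, 8, 6, 6, 5, 5] 169 2040 [1, 17, 4, 68, 2, 34, 2, 34, 6, 102, 24, 408, 12, 204, 12, 204, 2, 34, 8, 136, 4, 68, 4, 68, 3, 51, 12, 204, 6, 102, 6, 102, 5, 85, 20, 340, 10, 170, 10, 170, 30, 510, 120, 2040, 60, 1020, 60, 1020, 10, 170, 40, 680, 20, 340, 20, 340, 15, 255, 60, 1020, 30, 510, 30, 510] = true := by decide +kernel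

theorem node55 : dfs 1 [24, 8, 6, 6, 5, 5] 12 120 [1, 4, 2, 2, 6, 24, 12, 12, 2, 8, 4, 4, 3, 12, 6, 6, 5, 20, 10, 10, 30, 120, 60, 60, 10, 40, 20, 20, 15, 60, 30, 30] = true := by decide +kernel

theorem node62 : dfs 2 [12, 6, 6, 5, 5] 11 60 [1, 2, 6, 12, 2, 4, 3, 6, 5, 10, 30, 60, 10, 20, 15, 30] = true := by decide +kernel

theorem node63 : dfs 2 [13, 6, 6, 5, 5] 74 390 [1, 13, 6, 78, 2, 26, 3, 39, 5, 65, 30, 390, 10, 130, 15, 195] = true := by decide +kernel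

theorem node71 : dfs 1 [9, 7, 7, 6, 5, 5] 23 630 [1, 3, 7, 21, 6, 18, 42, 126, 2, 6, 14, 42, 3, 9, 21, 63, 5, 15, 35, 105, 30, 90, 210, 630, 10, 30, 70, 210, 15, 45, 105, 315] = true := by decide +kernel

theorem node74 : dfs 1 [13, 7, 7, 6, 5, 5] 193 2730 [1, 13, 7, 91, 6, 78, 42, 546, 2, 26, 14, 182, 3, 39, 21, 273, 5, 65, 35, 455, 30, 390, 210, 2730, 10, 130, 70, 910, 15, 195, 105, 1365] = true := by decide +kernel

theorem node77 : dfs 1 [18, 7, 7, 6, 5, 5] 58 630 [1, 3, 7, 21, 6, 18, 42, 126, 2, 6, 14, 42, 3, 9, 21, 63, 5, 15, 35, 105, 30, 90, 210, 630, 10, 30, 70, 210, 15, 45, 105, 315] = true := by decide +kernel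

theorem node78 : dfs 1 [19, 7, 7, 6, 5, 5] 379 3990 [1, 19, 7, 133, 6, 114, 42, 798, 2, 38, 14, 266, 3, 57, 21, 399, 5, 95, 35, 665, 30, 570, 210, 3990, 10, 190, 70, 1330, 15, 285, 105, 1995] = true := by decide +kernel

theorem node81 : dfs 1 [24, 7, 7, 6, 5, 5] 89 840 [1, 4, 2, 2, 7, 28, 14, 14, 6, 24, 12, 12, 42, 168, 84, 84, 2, 8, 4, 4, 14, 56, 28, 28, 3, 12, 6, 6, 21, 84, 42, 42, 5, 20, 10, 10, 35, 140, 70, 70, 30, 120, 60, 60, 210, 840, 420, 420, 10, 40, 20, 20, 70, 280, 140, 140, 15, 60, 30, 30, 105, 420, 210, 210] = true := by decide +kernel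

theorem node82 : dfs 1 [26, 7, 7, 6, 5, 5] 298 2730 [1, 13, 7, 91, 6, 78, 42, 546, 2, 26, 14, 182, 3, 39, 21, 273, 5, 65, 35, 455, 30, 390, 210, 2730, 10, 130, 70, 910, 15, 195, 105, 1365] = true := by decide +kernel

theorem node83 : dfs 1 [27, 7, 7, 6, 5, 5] 209 1890 [1, 9, 3, 3, 7, 63, 21, 21, 6, 54, 18, 18, 42, 378, 126, 126, 2, 18, 6, 6, 14, 126, 42, 42, 3, 27, 9, 9, 21, 189, 63, 63, 5, 45, 15, 15, 35, 315, 105, 105, 30, 270, 90, 90, 210, 1890, 630, 630, 10, 90, 30, 30, 70, 630, 210, 210, 15, 135, 45, 45, 105, 945, 315, 315] = true := by decide +kernel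

theorem node85 : dfs 2 [8, 7, 6, 5, 5] 139 840 [1, 4, 2, 2, 7, 28, 14, 14, 6, 24, 12, 12, 42, 168, 84, 84, 2, 8, 4, 4, 14, 56, 28, 28, 3, 12, 6, 6, 21, 84, 42, 42, 5, 20, 10, 10, 35, 140, 70, 70, 30, 120, 60, 60, 210, 840, 420, 420, 10, 40, 20, 20, 70, 280, 140, 140, 15, 60, 30, 30, 105, 420, 210, 210] = true := by decide +kernel

theorem node95 : dfs 3 [11, 6, 5, 5] 113 330 [1, 11, 6, 66, 2, 22, 3, 33, 5, 55, 30, 330, 10, 110, 15, 165] = true := by decide +kernel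

theorem node96 : dfs 3 [12, 6, 5, 5] 21 60 [1, 2, 6, 12, 2, 4, 3, 6, 5, 10, 30, 60, 10, 20, 15, 30] = true := by decide +kernel

theorem node97 : dfs 3 [13, 6, 5, 5] 139 390 [1, 13, 6, 78, 2, 26, 3, 39, 5, 65, 30, 390, 10, 130, 15, 195] = true := by decide +kernel

theorem node104 : dfs 3 [13, 7, 5, 5] 173 455 [1, 13, 7, 91, 5, 65, 35, 455] = true := by decide +kernel

theorem node107 : dfs 4 [9, 5, 5] 22 45 [1, 9, 3, 3, 5, 45, 15, 15] = true := by decide +kernel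

theorem node124 : dfs 1 [26, 6, 6, 6, 6, 5] 37 390 [1, 13, 6, 78, 2, 26, 3, 39, 5, 65, 30, 390, 10, 130, 15, 195] = true := by decide +kernel

theorem node126 : dfs 1 [28, 6, 6, 6, 6, 5] 41 420 [1, 14, 2, 7, 6, 84, 12, 42, 2, 28, 4, 14, 3, 42, 6, 21, 5, 70, 10, 35, 30, 420, 60, 210, 10, 140, 20, 70, 15, 210, 30, 105] = true := by decide +kernel

theorem node137 : dfs 1 [18, 7, 6, 6, 6, 5] 64 630 [1, 3, 7, 21, 6, 18, 42, 126, 2, 6, 14, 42, 3, 9, 21, 63, 5, 15, 35, 105, 30, 90, 210, 630, 10, 30, 70, 210, 15, 45, 105, 315] = true := by decide +kernel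

theorem node151 : dfs 3 [7, 6, 6, 5] 68 210 [1, 7, 6, 42, 2, 14, 3, 21, 5, 35, 30, 210, 10, 70, 15, 105] = true := by decide +kernel

theorem node153 : dfs 3 [9, 6, 6, 5] 32 90 [1, 3, 6, 18, 2, 6, 3, 9, 5, 15, 30, 90, 10, 30, 15, 45] = true := by decide +kernel

theorem node162 : dfs 5 [7, 5] 23 35 [1, 7, 5, 35] = true := by decide +kernel

theorem node164 : dfs 5 [9, 5] 31 45 [1, 9, 3, 3, 5, 45, 15, 15] = true := by decide +kernel

theorem node169 : dfs 1 [10, 6, 6, 6, 6, 6] 2 30 [1, 5, 6, 30, 2, 10, 3, 15] = true := by decide +kernel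

theorem node170 : dfs 1 [11, 6, 6, 6, 6, 6] 5 66 [1, 11, 6, 66, 2, 22, 3, 33] = true := by decide +kernel

theorem node187 : dfs 2 [9, 6, 6, 6, 6] 4 18 [1, 3, 6, 18, 2, 6, 3, 9] = true := by decide +kernel

theorem node195 : dfs 3 [7, 6, 6, 6] 15 42 [1, 7, 6, 42, 2, 14, 3, 21] = true := by decide +kernel

theorem node196 : dfs 3 [8, 6, 6, 6] 9 24 [1, 4, 2, 2, 6, 24, 12, 12, 2, 8, 4, 4, 3, 12, 6, 6] = true := by decide +kernel

theorem node198 : dfs 3 [10, 6, 6, 6] 12 30 [1, 5, 6, 30, 2, 10, 3, 15] = true := by decide +kernel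

theorem node202 : dfs 4 [7, 6, 6] 22 42 [1, 7, 6, 42, 2, 14, 3, 21] = true := by decide +kernel

theorem node208 : dfs 5 [8, 6] 17 24 [1, 4, 2, 2, 6, 24, 12, 12, 2, 8, 4, 4, 3, 12, 6, 6] = true := by decide +kernel

end CfsgLib.Spor.NineClasses
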