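import Cfsg.Agent.Lib.Spor.NineClasses.Dfs
import Cfsg.Agent.Lib.Spor.NineClasses.CertA
import Cfsg.Agent.Lib.Spor.NineClasses.CertB
import Cfsg.Agent.Lib.Spor.NineClasses.CertC
import Cfsg.Agent.Lib.Spor.NineClasses.CertD

/-!
# The complete search over centraliser orders
-/

set_option autoImplicit false

namespace CfsgLib.Spor.NineClasses

theorem node24 : dfs 2 [6, 6, 6, 5, 5] 3 30 [1, 6, 2, 3, 5, 30, 10, 15] = true := by
  refine dfs_succ 11 30 (by decide) (by decide) fun x hx => ?_
  have hx' : x ∈ [11, 12, 13, 14, 15, 16, 17, 18, 19, 20, 21, 22, 23, 24, 25, 26, 27, 28, 29, 30, 31, 32, 33, 34, 35, 36, 37, 38, 39, 40] := hx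
  simp only [List.mem_cons, List.not_mem_nil, or_false] at hx'
  rcases hx' with rfl | rfl | rfl | rfl | rfl | rfl | rfl | rfl | rfl | rfl | rfl | rfl | rfl | rfl | rfl | rfl | rfl | rfl | rfl | rfl | rfl | rfl | rfl | rfl | rfl | rfl | rfl | rfl | rfl | rfl
  · exact of_child node0 (by decide +kernel) (by decide +kernel) (by decide +kernel)
  · exact of_child node1 (by decide +kernel) (by decide +kernel) (by decide +kernel)
  · exact of_child node2 (by decide +kernel) (by decide +kernel) (by decide +kernel)
  · exact of_child node3 (by decide +kernel) (by decide +kernel) (by decide +kernel)
  · exact of_prune (by decide +kernel)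
  · exact of_child node4 (by decide +kernel) (by decide +kernel) (by decide +kernel)
  · exact of_child node5 (by decide +kernel) (by decide +kernel) (by decide +kernel)
  · exact of_child node6 (by decide +kernel) (by decide +kernel) (by decide +kernel)
  · exact of_child node7 (by decide +kernel) (by decide +kernel) (by decide +kernel)
  · exact of_prune (by decide +kernel)
  · exact of_child node8 (by decide +kernel) (by decide +kernel) (by decide +kernel)
  · exact of_child node9 (by decide +kernel) (by decide +kernel) (by decide +kernel)
  · exact of_child node10 (by decide +kernel) (by decide +kernel) (by decide +kernel)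
  · exact of_child node11 (by decide +kernel) (by decide +kernel) (by decide +kernel)
  · exact of_prune (by decide +kernel)
  · exact of_child node12 (by decide +kernel) (by decide +kernel) (by decide +kernel)
  · exact of_child node13 (by decide +kernel) (by decide +kernel) (by decide +kernel)
  · exact of_child node14 (by decide +kernel) (by decide +kernel) (by decide +kernel)
  · exact of_child node15 (by decide +kernel) (by decide +kernel) (by decide +kernel)
  · exact of_prune (by decide +kernel)
  · exact of_child node16 (by decide +kernel) (by decide +kernel) (by decide +kernel)
  · exact of_child node17 (by decide +kernel) (by decide +kernel) (by decide +kernel)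
  · exact of_child node18 (by decide +kernel) (by decide +kernel) (by decide +kernel)
  · exact of_child node19 (by decide +kernel) (by decide +kernel) (by decide +kernel)
  · exact of_prune (by decide +kernel)
  · exact of_child node20 (by decide +kernel) (by decide +kernel) (by decide +kernel)
  · exact of_child node21 (by decide +kernel) (by decide +kernel) (by decide +kernel)
  · exact of_child node22 (by decide +kernel) (by decide +kernel) (by decide +kernel)
  · exact of_child node23 (by decide +kernel) (by decide +kernel) (by decide +kernel)
  · exact of_prune (by decide +kernel)

theorem node41 : dfs 2 [7, 6, 6, 5, 5] 26 210 [1, 7, 6, 42, 2, 14, 3, 21, 5, 35, 30, 210, 10, 70, 15, 105] = true := by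
  refine dfs_succ 9 24 (by decide) (by decide) fun x hx => ?_
  have hx' : x ∈ [9, 10, 11, 12, 13, 14, 15, 16, 17, 18, 19, 20, 21, 22, 23, 24, 25, 26, 27, 28, 29, 30, 31, 32] := hx
  simp only [List.mem_cons, List.not_mem_nil, or_false] at hx'
  rcases hx' with rfl | rfl | rfl | rfl | rfl | rfl | rfl | rfl | rfl | rfl | rfl | rfl | rfl | rfl | rfl | rfl | rfl | rfl | rfl | rfl | rfl | rfl | rfl | rfl
  · exact of_child node25 (by decide +kernel) (by decide +kernel) (by decide +kernel)
  · exact of_prune (by decide +kernel)
  · exact of_child node26 (by decide +kernel) (by decide +kernel) (by decide +kernel)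
  · exact of_child node27 (by decide +kernel) (by decide +kernel) (by decide +kernel)
  · exact of_child node28 (by decide +kernel) (by decide +kernel) (by decide +kernel)
  · exact of_prune (by decide +kernel)
  · exact of_prune (by decide +kernel)
  · exact of_child node29 (by decide +kernel) (by decide +kernel) (by decide +kernel)
  · exact of_child node30 (by decide +kernel) (by decide +kernel) (by decide +kernel)
  · exact of_child node31 (by decide +kernel) (by decide +kernel) (by decide +kernel)
  · exact of_child node32 (by decide +kernel) (by decide +kernel) (by decide +kernel)
  · exact of_prune (by decide +kernel)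
  · exact of_prune (by decide +kernel)
  · exact of_child node33 (by decide +kernel) (by decide +kernel) (by decide +kernel)
  · exact of_child node34 (by decide +kernel) (by decide +kernel) (by decide +kernel)
  · exact of_child node35 (by decide +kernel) (by decide +kernel) (by decide +kernel)
  · exact of_prune (by decide +kernel)
  · exact of_child node36 (by decide +kernel) (by decide +kernel) (by decide +kernel)
  · exact of_child node37 (by decide +kernel) (by decide +kernel) (by decide +kernel)
  · exact of_prune (by decide +kernel)
  · exact of_child node38 (by decide +kernel) (by decide +kernel) (by decide +kernel)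
  · exact of_prune (by decide +kernel)
  · exact of_child node39 (by decide +kernel) (by decide +kernel) (by decide +kernel)
  · exact of_child node40 (by decide +kernel) (by decide +kernel) (by decide +kernel)

theorem node59 : dfs 2 [8, 6, 6, 5, 5] 17 120 [1, 4, 2, 2, 6, 24, 12, 12, 2, 8, 4, 4, 3, 12, 6, 6, 5, 20, 10, 10, 30, 120, 60, 60, 10, 40, 20, 20, 15, 60, 30, 30] = true := by
  refine dfs_succ 8 21 (by decide) (by decide) fun x hx => ?_
  have hx' : x ∈ [8, 9, 10, 11, 12, 13, 14, 15, 16, 17, 18, 19, 20, 21, 22, 23, 24, 25, 26, 27, 28] := hx
  simp only [List.mem_cons, List.not_mem_nil, or_false] at hx'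
  rcases hx' with rfl | rfl | rfl | rfl | rfl | rfl | rfl | rfl | rfl | rfl | rfl | rfl | rfl | rfl | rfl | rfl | rfl | rfl | rfl | rfl | rfl
  · exact of_child node42 (by decide +kernel) (by decide +kernel) (by decide +kernel)
  · exact of_child node43 (by decide +kernel) (by decide +kernel) (by decide +kernel)
  · exact of_prune (by decide +kernel)
  · exact of_child node44 (by decide +kernel) (by decide +kernel) (by decide +kernel)
  · exact of_child node45 (by decide +kernel) (by decide +kernel) (by decide +kernel)
  · exact of_child node46 (by decide +kernel) (by decide +kernel) (by decide +kernel)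
  · exact of_child node47 (by decide +kernel) (by decide +kernel) (by decide +kernel)
  · exact of_prune (by decide +kernel)
  · exact of_child node48 (by decide +kernel) (by decide +kernel) (by decide +kernel)
  · exact of_child node49 (by decide +kernel) (by decide +kernel) (by decide +kernel)
  · exact of_child node50 (by decide +kernel) (by decide +kernel) (by decide +kernel)
  · exact of_child node51 (by decide +kernel) (by decide +kernel) (by decide +kernel)
  · exact of_prune (by decide +kernel)
  · exact of_child node52 (by decide +kernel) (by decide +kernel) (by decide +kernel)
  · exact of_child node53 (by decide +kernel) (by decide +kernel) (by decide +kernel)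
  · exact of_child node54 (by decide +kernel) (by decide +kernel) (by decide +kernel)
  · exact of_child node55 (by decide +kernel) (by decide +kernel) (by decide +kernel)
  · exact of_prune (by decide +kernel)
  · exact of_child node56 (by decide +kernel) (by decide +kernel) (by decide +kernel)
  · exact of_child node57 (by decide +kernel) (by decide +kernel) (by decide +kernel)
  · exact of_child node58 (by decide +kernel) (by decide +kernel) (by decide +kernel)

theorem node68 : dfs 3 [6, 6, 5, 5] 8 30 [1, 6, 2, 3, 5, 30, 10, 15] = true := by
  refine dfs_succ 6 13 (by decide) (by decide) fun x hx => ?_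
  have hx' : x ∈ [6, 7, 8, 9, 10, 11, 12, 13, 14, 15, 16, 17, 18] := hx
  simp only [List.mem_cons, List.not_mem_nil, or_false] at hx'
  rcases hx' with rfl | rfl | rfl | rfl | rfl | rfl | rfl | rfl | rfl | rfl | rfl | rfl | rfl
  · exact of_child node24 (by decide +kernel) (by decide +kernel) (by decide +kernel)
  · exact of_child node41 (by decide +kernel) (by decide +kernel) (by decide +kernel)
  · exact of_child node59 (by decide +kernel) (by decide +kernel) (by decide +kernel)
  · exact of_child node60 (by decide +kernel) (by decide +kernel) (by decide +kernel)
  · exact of_prune (by decide +kernel)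
  · exact of_child node61 (by decide +kernel) (by decide +kernel) (by decide +kernel)
  · exact of_child node62 (by decide +kernel) (by decide +kernel) (by decide +kernel)
  · exact of_child node63 (by decide +kernel) (by decide +kernel) (by decide +kernel)
  · exact of_child node64 (by decide +kernel) (by decide +kernel) (by decide +kernel)
  · exact of_prune (by decide +kernel)
  · exact of_child node65 (by decide +kernel) (by decide +kernel) (by decide +kernel)
  · exact of_child node66 (by decide +kernel) (by decide +kernel) (by decide +kernel)
  · exact of_child node67 (by decide +kernel) (by decide +kernel) (by decide +kernel)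

theorem node84 : dfs 2 [7, 7, 6, 5, 5] 31 210 [1, 7, 6, 42, 2, 14, 3, 21, 5, 35, 30, 210, 10, 70, 15, 105] = true := by
  refine dfs_succ 7 21 (by decide) (by decide) fun x hx => ?_
  have hx' : x ∈ [7, 8, 9, 10, 11, 12, 13, 14, 15, 16, 17, 18, 19, 20, 21, 22, 23, 24, 25, 26, 27] := hx
  simp only [List.mem_cons, List.not_mem_nil, or_false] at hx'
  rcases hx' with rfl | rfl | rfl | rfl | rfl | rfl | rfl | rfl | rfl | rfl | rfl | rfl | rfl | rfl | rfl | rfl | rfl | rfl | rfl | rfl | rfl
  · exact of_child node69 (by decide +kernel) (by decide +kernel) (by decide +kernel)
  · exact of_child node70 (by decide +kernel) (by decide +kernel) (by decide +kernel)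
  · exact of_child node71 (by decide +kernel) (by decide +kernel) (by decide +kernel)
  · exact of_prune (by decide +kernel)
  · exact of_child node72 (by decide +kernel) (by decide +kernel) (by decide +kernel)
  · exact of_child node73 (by decide +kernel) (by decide +kernel) (by decide +kernel)
  · exact of_child node74 (by decide +kernel) (by decide +kernel) (by decide +kernel)
  · exact of_prune (by decide +kernel)
  · exact of_prune (by decide +kernel)
  · exact of_child node75 (by decide +kernel) (by decide +kernel) (by decide +kernel)
  · exact of_child node76 (by decide +kernel) (by decide +kernel) (by decide +kernel)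
  · exact of_child node77 (by decide +kernel) (by decide +kernel) (by decide +kernel)
  · exact of_child node78 (by decide +kernel) (by decide +kernel) (by decide +kernel)
  · exact of_prune (by decide +kernel)
  · exact of_prune (by decide +kernel)
  · exact of_child node79 (by decide +kernel) (by decide +kernel) (by decide +kernel)
  · exact of_child node80 (by decide +kernel) (by decide +kernel) (by decide +kernel)
  · exact of_child node81 (by decide +kernel) (by decide +kernel) (by decide +kernel)
  · exact of_prune (by decide +kernel)
  · exact of_child node82 (by decide +kernel) (by decide +kernel) (by decide +kernel)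
  · exact of_child node83 (by decide +kernel) (by decide +kernel) (by decide +kernel)

theorem node92 : dfs 3 [7, 6, 5, 5] 61 210 [1, 7, 6, 42, 2, 14, 3, 21, 5, 35, 30, 210, 10, 70, 15, 105] = true := by
  refine dfs_succ 7 11 (by decide) (by decide) fun x hx => ?_
  have hx' : x ∈ [7, 8, 9, 10, 11, 12, 13, 14, 15, 16, 17] := hx
  simp only [List.mem_cons, List.not_mem_nil, or_false] at hx'
  rcases hx' with rfl | rfl | rfl | rfl | rfl | rfl | rfl | rfl | rfl | rfl | rfl
  · exact of_child node84 (by decide +kernel) (by decide +kernel) (by decide +kernel)
  · exact of_child node85 (by decide +kernel) (by decide +kernel) (by decide +kernel)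
  · exact of_child node86 (by decide +kernel) (by decide +kernel) (by decide +kernel)
  · exact of_prune (by decide +kernel)
  · exact of_child node87 (by decide +kernel) (by decide +kernel) (by decide +kernel)
  · exact of_child node88 (by decide +kernel) (by decide +kernel) (by decide +kernel)
  · exact of_child node89 (by decide +kernel) (by decide +kernel) (by decide +kernel)
  · exact of_prune (by decide +kernel)
  · exact of_prune (by decide +kernel)
  · exact of_child node90 (by decide +kernel) (by decide +kernel) (by decide +kernel)
  · exact of_child node91 (by decide +kernel) (by decide +kernel) (by decide +kernel)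

theorem node98 : dfs 4 [6, 5, 5] 13 30 [1, 6, 2, 3, 5, 30, 10, 15] = true := by
  refine dfs_succ 6 8 (by decide) (by decide) fun x hx => ?_
  have hx' : x ∈ [6, 7, 8, 9, 10, 11, 12, 13] := hx
  simp only [List.mem_cons, List.not_mem_nil, or_false] at hx'
  rcases hx' with rfl | rfl | rfl | rfl | rfl | rfl | rfl | rfl
  · exact of_child node68 (by decide +kernel) (by decide +kernel) (by decide +kernel)
  · exact of_child node92 (by decide +kernel) (by decide +kernel) (by decide +kernel)
  · exact of_child node93 (by decide +kernel) (by decide +kernel) (by decide +kernel)
  · exact of_child node94 (by decide +kernel) (by decide +kernel) (by decide +kernel)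
  · exact of_prune (by decide +kernel)
  · exact of_child node95 (by decide +kernel) (by decide +kernel) (by decide +kernel)
  · exact of_child node96 (by decide +kernel) (by decide +kernel) (by decide +kernel)
  · exact of_child node97 (by decide +kernel) (by decide +kernel) (by decide +kernel)

theorem node105 : dfs 4 [7, 5, 5] 16 35 [1, 7, 5, 35] = true := by
  refine dfs_succ 7 7 (by decide) (by decide) fun x hx => ?_
  have hx' : x ∈ [7, 8, 9, 10, 11, 12, 13] := hx
  simp only [List.mem_cons, List.not_mem_nil, or_false] at hx'
  rcases hx' with rfl | rfl | rfl | rfl | rfl | rfl | rfl
  · exact of_child node99 (by decide +kernel) (by decide +kernel) (by decide +kernel)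
  · exact of_child node100 (by decide +kernel) (by decide +kernel) (by decide +kernel)
  · exact of_child node101 (by decide +kernel) (by decide +kernel) (by decide +kernel)
  · exact of_prune (by decide +kernel)
  · exact of_child node102 (by decide +kernel) (by decide +kernel) (by decide +kernel)
  · exact of_child node103 (by decide +kernel) (by decide +kernel) (by decide +kernel)
  · exact of_child node104 (by decide +kernel) (by decide +kernel) (by decide +kernel)

theorem node109 : dfs 5 [5, 5] 3 5 [1, 5] = true := by
  refine dfs_succ 5 7 (by decide) (by decide) fun x hx => ?_
  have hx' : x ∈ [5, 6, 7, 8, 9, 10, 11] := hx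
  simp only [List.mem_cons, List.not_mem_nil, or_false] at hx'
  rcases hx' with rfl | rfl | rfl | rfl | rfl | rfl | rfl
  · exact of_prune (by decide +kernel)
  · exact of_child node98 (by decide +kernel) (by decide +kernel) (by decide +kernel)
  · exact of_child node105 (by decide +kernel) (by decide +kernel) (by decide +kernel)
  · exact of_child node106 (by decide +kernel) (by decide +kernel) (by decide +kernel)
  · exact of_child node107 (by decide +kernel) (by decide +kernel) (by decide +kernel)
  · exact of_prune (by decide +kernel)
  · exact of_child node108 (by decide +kernel) (by decide +kernel) (by decide +kernel)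

theorem node128 : dfs 2 [6, 6, 6, 6, 5] 4 30 [1, 6, 2, 3, 5, 30, 10, 15] = true := by
  refine dfs_succ 8 23 (by decide) (by decide) fun x hx => ?_
  have hx' : x ∈ [8, 9, 10, 11, 12, 13, 14, 15, 16, 17, 18, 19, 20, 21, 22, 23, 24, 25, 26, 27, 28, 29, 30] := hx
  simp only [List.mem_cons, List.not_mem_nil, or_false] at hx'
  rcases hx' with rfl | rfl | rfl | rfl | rfl | rfl | rfl | rfl | rfl | rfl | rfl | rfl | rfl | rfl | rfl | rfl | rfl | rfl | rfl | rfl | rfl | rfl | rfl
  · exact of_child node110 (by decide +kernel) (by decide +kernel) (by decide +kernel)
  · exact of_child node111 (by decide +kernel) (by decide +kernel) (by decide +kernel)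
  · exact of_prune (by decide +kernel)
  · exact of_child node112 (by decide +kernel) (by decide +kernel) (by decide +kernel)
  · exact of_child node113 (by decide +kernel) (by decide +kernel) (by decide +kernel)
  · exact of_child node114 (by decide +kernel) (by decide +kernel) (by decide +kernel)
  · exact of_child node115 (by decide +kernel) (by decide +kernel) (by decide +kernel)
  · exact of_prune (by decide +kernel)
  · exact of_child node116 (by decide +kernel) (by decide +kernel) (by decide +kernel)
  · exact of_child node117 (by decide +kernel) (by decide +kernel) (by decide +kernel)
  · exact of_child node118 (by decide +kernel) (by decide +kernel) (by decide +kernel)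
  · exact of_child node119 (by decide +kernel) (by decide +kernel) (by decide +kernel)
  · exact of_prune (by decide +kernel)
  · exact of_child node120 (by decide +kernel) (by decide +kernel) (by decide +kernel)
  · exact of_child node121 (by decide +kernel) (by decide +kernel) (by decide +kernel)
  · exact of_child node122 (by decide +kernel) (by decide +kernel) (by decide +kernel)
  · exact of_child node123 (by decide +kernel) (by decide +kernel) (by decide +kernel)
  · exact of_prune (by decide +kernel)
  · exact of_child node124 (by decide +kernel) (by decide +kernel) (by decide +kernel)
  · exact of_child node125 (by decide +kernel) (by decide +kernel) (by decide +kernel)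
  · exact of_child node126 (by decide +kernel) (by decide +kernel) (by decide +kernel)
  · exact of_child node127 (by decide +kernel) (by decide +kernel) (by decide +kernel)
  · exact of_prune (by decide +kernel)

theorem node142 : dfs 2 [7, 6, 6, 6, 5] 33 210 [1, 7, 6, 42, 2, 14, 3, 21, 5, 35, 30, 210, 10, 70, 15, 105] = true := by
  refine dfs_succ 7 19 (by decide) (by decide) fun x hx => ?_
  have hx' : x ∈ [7, 8, 9, 10, 11, 12, 13, 14, 15, 16, 17, 18, 19, 20, 21, 22, 23, 24, 25] := hx
  simp only [List.mem_cons, List.not_mem_nil, or_false] at hx'
  rcases hx' with rfl | rfl | rfl | rfl | rfl | rfl | rfl | rfl | rfl | rfl | rfl | rfl | rfl | rfl | rfl | rfl | rfl | rfl | rfl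
  · exact of_child node129 (by decide +kernel) (by decide +kernel) (by decide +kernel)
  · exact of_child node130 (by decide +kernel) (by decide +kernel) (by decide +kernel)
  · exact of_child node131 (by decide +kernel) (by decide +kernel) (by decide +kernel)
  · exact of_prune (by decide +kernel)
  · exact of_child node132 (by decide +kernel) (by decide +kernel) (by decide +kernel)
  · exact of_child node133 (by decide +kernel) (by decide +kernel) (by decide +kernel)
  · exact of_child node134 (by decide +kernel) (by decide +kernel) (by decide +kernel)
  · exact of_prune (by decide +kernel)
  · exact of_prune (by decide +kernel)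
  · exact of_child node135 (by decide +kernel) (by decide +kernel) (by decide +kernel)
  · exact of_child node136 (by decide +kernel) (by decide +kernel) (by decide +kernel)
  · exact of_child node137 (by decide +kernel) (by decide +kernel) (by decide +kernel)
  · exact of_child node138 (by decide +kernel) (by decide +kernel) (by decide +kernel)
  · exact of_prune (by decide +kernel)
  · exact of_prune (by decide +kernel)
  · exact of_child node139 (by decide +kernel) (by decide +kernel) (by decide +kernel)
  · exact of_child node140 (by decide +kernel) (by decide +kernel) (by decide +kernel)
  · exact of_child node141 (by decide +kernel) (by decide +kernel) (by decide +kernel)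
  · exact of_prune (by decide +kernel)

theorem node150 : dfs 3 [6, 6, 6, 5] 9 30 [1, 6, 2, 3, 5, 30, 10, 15] = true := by
  refine dfs_succ 6 11 (by decide) (by decide) fun x hx => ?_
  have hx' : x ∈ [6, 7, 8, 9, 10, 11, 12, 13, 14, 15, 16] := hx
  simp only [List.mem_cons, List.not_mem_nil, or_false] at hx'
  rcases hx' with rfl | rfl | rfl | rfl | rfl | rfl | rfl | rfl | rfl | rfl | rfl
  · exact of_child node128 (by decide +kernel) (by decide +kernel) (by decide +kernel)
  · exact of_child node142 (by decide +kernel) (by decide +kernel) (by decide +kernel)
  · exact of_child node143 (by decide +kernel) (by decide +kernel) (by decide +kernel)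
  · exact of_child node144 (by decide +kernel) (by decide +kernel) (by decide +kernel)
  · exact of_prune (by decide +kernel)
  · exact of_child node145 (by decide +kernel) (by decide +kernel) (by decide +kernel)
  · exact of_child node146 (by decide +kernel) (by decide +kernel) (by decide +kernel)
  · exact of_child node147 (by decide +kernel) (by decide +kernel) (by decide +kernel)
  · exact of_child node148 (by decide +kernel) (by decide +kernel) (by decide +kernel)
  · exact of_prune (by decide +kernel)
  · exact of_child node149 (by decide +kernel) (by decide +kernel) (by decide +kernel)

theorem node156 : dfs 4 [6, 6, 5] 14 30 [1, 6, 2, 3, 5, 30, 10, 15] = true := by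
  refine dfs_succ 6 7 (by decide) (by decide) fun x hx => ?_
  have hx' : x ∈ [6, 7, 8, 9, 10, 11, 12] := hx
  simp only [List.mem_cons, List.not_mem_nil, or_false] at hx'
  rcases hx' with rfl | rfl | rfl | rfl | rfl | rfl | rfl
  · exact of_child node150 (by decide +kernel) (by decide +kernel) (by decide +kernel)
  · exact of_child node151 (by decide +kernel) (by decide +kernel) (by decide +kernel)
  · exact of_child node152 (by decide +kernel) (by decide +kernel) (by decide +kernel)
  · exact of_child node153 (by decide +kernel) (by decide +kernel) (by decide +kernel)
  · exact of_prune (by decide +kernel)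
  · exact of_child node154 (by decide +kernel) (by decide +kernel) (by decide +kernel)
  · exact of_child node155 (by decide +kernel) (by decide +kernel) (by decide +kernel)

theorem node161 : dfs 5 [6, 5] 19 30 [1, 6, 2, 3, 5, 30, 10, 15] = true := by
  refine dfs_succ 6 6 (by decide) (by decide) fun x hx => ?_
  have hx' : x ∈ [6, 7, 8, 9, 10, 11] := hx
  simp only [List.mem_cons, List.not_mem_nil, or_false] at hx'
  rcases hx' with rfl | rfl | rfl | rfl | rfl | rfl
  · exact of_child node156 (by decide +kernel) (by decide +kernel) (by decide +kernel)
  · exact of_child node157 (by decide +kernel) (by decide +kernel) (by decide +kernel)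
  · exact of_child node158 (by decide +kernel) (by decide +kernel) (by decide +kernel)
  · exact of_child node159 (by decide +kernel) (by decide +kernel) (by decide +kernel)
  · exact of_prune (by decide +kernel)
  · exact of_child node160 (by decide +kernel) (by decide +kernel) (by decide +kernel)

theorem node165 : dfs 6 [5] 4 5 [1, 5] = true := by
  refine dfs_succ 5 6 (by decide) (by decide) fun x hx => ?_
  have hx' : x ∈ [5, 6, 7, 8, 9, 10] := hx
  simp only [List.mem_cons, List.not_mem_nil, or_false] at hx'
  rcases hx' with rfl | rfl | rfl | rfl | rfl | rfl
  · exact of_child node109 (by decide +kernel) (by decide +kernel) (by decide +kernel)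
  · exact of_child node161 (by decide +kernel) (by decide +kernel) (by decide +kernel)
  · exact of_child node162 (by decide +kernel) (by decide +kernel) (by decide +kernel)
  · exact of_child node163 (by decide +kernel) (by decide +kernel) (by decide +kernel)
  · exact of_child node164 (by decide +kernel) (by decide +kernel) (by decide +kernel)
  · exact of_prune (by decide +kernel)

theorem node184 : dfs 2 [6, 6, 6, 6, 6] 1 6 [1, 6, 2, 3] = true := by
  refine dfs_succ 7 18 (by decide) (by decide) fun x hx => ?_
  have hx' : x ∈ [7, 8, 9, 10, 11, 12, 13, 14, 15, 16, 17, 18, 19, 20, 21, 22, 23, 24] := hx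
  simp only [List.mem_cons, List.not_mem_nil, or_false] at hx'
  rcases hx' with rfl | rfl | rfl | rfl | rfl | rfl | rfl | rfl | rfl | rfl | rfl | rfl | rfl | rfl | rfl | rfl | rfl | rfl
  · exact of_child node166 (by decide +kernel) (by decide +kernel) (by decide +kernel)
  · exact of_child node167 (by decide +kernel) (by decide +kernel) (by decide +kernel)
  · exact of_child node168 (by decide +kernel) (by decide +kernel) (by decide +kernel)
  · exact of_child node169 (by decide +kernel) (by decide +kernel) (by decide +kernel)
  · exact of_child node170 (by decide +kernel) (by decide +kernel) (by decide +kernel)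
  · exact of_child node171 (by decide +kernel) (by decide +kernel) (by decide +kernel)
  · exact of_child node172 (by decide +kernel) (by decide +kernel) (by decide +kernel)
  · exact of_child node173 (by decide +kernel) (by decide +kernel) (by decide +kernel)
  · exact of_child node174 (by decide +kernel) (by decide +kernel) (by decide +kernel)
  · exact of_child node175 (by decide +kernel) (by decide +kernel) (by decide +kernel)
  · exact of_child node176 (by decide +kernel) (by decide +kernel) (by decide +kernel)
  · exact of_child node177 (by decide +kernel) (by decide +kernel) (by decide +kernel)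
  · exact of_child node178 (by decide +kernel) (by decide +kernel) (by decide +kernel)
  · exact of_child node179 (by decide +kernel) (by decide +kernel) (by decide +kernel)
  · exact of_child node180 (by decide +kernel) (by decide +kernel) (by decide +kernel)
  · exact of_child node181 (by decide +kernel) (by decide +kernel) (by decide +kernel)
  · exact of_child node182 (by decide +kernel) (by decide +kernel) (by decide +kernel)
  · exact of_child node183 (by decide +kernel) (by decide +kernel) (by decide +kernel)

theorem node194 : dfs 3 [6, 6, 6, 6] 2 6 [1, 6, 2, 3] = true := by
  refine dfs_succ 6 10 (by decide) (by decide) fun x hx => ?_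
  have hx' : x ∈ [6, 7, 8, 9, 10, 11, 12, 13, 14, 15] := hx
  simp only [List.mem_cons, List.not_mem_nil, or_false] at hx'
  rcases hx' with rfl | rfl | rfl | rfl | rfl | rfl | rfl | rfl | rfl | rfl
  · exact of_child node184 (by decide +kernel) (by decide +kernel) (by decide +kernel)
  · exact of_child node185 (by decide +kernel) (by decide +kernel) (by decide +kernel)
  · exact of_child node186 (by decide +kernel) (by decide +kernel) (by decide +kernel)
  · exact of_child node187 (by decide +kernel) (by decide +kernel) (by decide +kernel)
  · exact of_child node188 (by decide +kernel) (by decide +kernel) (by decide +kernel)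
  · exact of_child node189 (by decide +kernel) (by decide +kernel) (by decide +kernel)
  · exact of_child node190 (by decide +kernel) (by decide +kernel) (by decide +kernel)
  · exact of_child node191 (by decide +kernel) (by decide +kernel) (by decide +kernel)
  · exact of_child node192 (by decide +kernel) (by decide +kernel) (by decide +kernel)
  · exact of_child node193 (by decide +kernel) (by decide +kernel) (by decide +kernel)

theorem node201 : dfs 4 [6, 6, 6] 3 6 [1, 6, 2, 3] = true := by
  refine dfs_succ 6 7 (by decide) (by decide) fun x hx => ?_
  have hx' : x ∈ [6, 7, 8, 9, 10, 11, 12] := hx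
  simp only [List.mem_cons, List.not_mem_nil, or_false] at hx'
  rcases hx' with rfl | rfl | rfl | rfl | rfl | rfl | rfl
  · exact of_child node194 (by decide +kernel) (by decide +kernel) (by decide +kernel)
  · exact of_child node195 (by decide +kernel) (by decide +kernel) (by decide +kernel)
  · exact of_child node196 (by decide +kernel) (by decide +kernel) (by decide +kernel)
  · exact of_child node197 (by decide +kernel) (by decide +kernel) (by decide +kernel)
  · exact of_child node198 (by decide +kernel) (by decide +kernel) (by decide +kernel)
  · exact of_child node199 (by decide +kernel) (by decide +kernel) (by decide +kernel)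
  · exact of_child node200 (by decide +kernel) (by decide +kernel) (by decide +kernel)

theorem node206 : dfs 5 [6, 6] 4 6 [1, 6, 2, 3] = true := by
  refine dfs_succ 6 5 (by decide) (by decide) fun x hx => ?_
  have hx' : x ∈ [6, 7, 8, 9, 10] := hx
  simp only [List.mem_cons, List.not_mem_nil, or_false] at hx'
  rcases hx' with rfl | rfl | rfl | rfl | rfl
  · exact of_child node201 (by decide +kernel) (by decide +kernel) (by decide +kernel)
  · exact of_child node202 (by decide +kernel) (by decide +kernel) (by decide +kernel)
  · exact of_child node203 (by decide +kernel) (by decide +kernel) (by decide +kernel)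
  · exact of_child node204 (by decide +kernel) (by decide +kernel) (by decide +kernel)
  · exact of_child node205 (by decide +kernel) (by decide +kernel) (by decide +kernel)

theorem node210 : dfs 6 [6] 5 6 [1, 6, 2, 3] = true := by
  refine dfs_succ 6 4 (by decide) (by decide) fun x hx => ?_
  have hx' : x ∈ [6, 7, 8, 9] := hx
  simp only [List.mem_cons, List.not_mem_nil, or_false] at hx'
  rcases hx' with rfl | rfl | rfl | rfl
  · exact of_child node206 (by decide +kernel) (by decide +kernel) (by decide +kernel)
  · exact of_child node207 (by decide +kernel) (by decide +kernel) (by decide +kernel)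
  · exact of_child node208 (by decide +kernel) (by decide +kernel) (by decide +kernel)
  · exact of_child node209 (by decide +kernel) (by decide +kernel) (by decide +kernel)

theorem node214 : dfs 7 [] 1 1 [1] = true := by
  refine dfs_succ 5 5 (by decide) (by decide) fun x hx => ?_
  have hx' : x ∈ [5, 6, 7, 8, 9] := hx
  simp only [List.mem_cons, List.not_mem_nil, or_false] at hx'
  rcases hx' with rfl | rfl | rfl | rfl | rfl
  · exact of_child node165 (by decide +kernel) (by decide +kernel) (by decide +kernel)
  · exact of_child node210 (by decide +kernel) (by decide +kernel) (by decide +kernel)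
  · exact of_child node211 (by decide +kernel) (by decide +kernel) (by decide +kernel)
  · exact of_child node212 (by decide +kernel) (by decide +kernel) (by decide +kernel)
  · exact of_child node213 (by decide +kernel) (by decide +kernel) (by decide +kernel)

theorem check_eq_true : check = true := node214

end CfsgLib.Spor.NineClasses
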