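import Mathlib.Data.Nat.Prime.Basic

/-!
# Centraliser orders of a simple group with nine classes: the Boolean checker

A vector is the ascending list `c` of the centraliser orders of representatives of the
non-trivial classes together with the order `L` of the group.
-/

set_option autoImplicit false

namespace CfsgLib.Spor.NineClasses

/-- The primes for which a class with centraliser order `p` is examined. -/
def scPrimes : List ℕ := [5, 7, 11, 13, 17, 19, 23, 29, 31, 37, 41, 43, 47, 53, 59, 61, 67, 71, 73, 79, 83, 89, 97]

/-- No divisor `d' ≥ d` with square at most `p`. -/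
def noDiv (p : ℕ) : ℕ → ℕ → Bool
  | 0, _ => false
  | fuel + 1, d => if p < d * d then true else if p % d == 0 then false else noDiv p fuel (d + 1)

/-- A sufficient test for primality. -/
def isP (p : ℕ) : Bool := Nat.ble 2 p && noDiv p 1000 2

/-- Some prime divisors. -/
def pfs (n : ℕ) : List ℕ :=
  (((List.range' 2 200).filter fun d => n % d == 0).flatMap fun d => [d, n / d]).filter fun p =>
    isP p && n % p == 0

/-- Divisors of `e` that exceed one. -/
def bigDivisors (e : ℕ) : List ℕ :=
  (List.range (e + 1)).filter fun d => Nat.ble 2 d && e % d == 0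

/-- The test for one self-centralising class of prime order. -/
def pcOne (p : ℕ) (c : List ℕ) (L : ℕ) : Bool :=
  let s := c.count p
  let e := (p - 1) / s
  let n := L / (p * e)
  s == 0 || (c.all (fun x => x == p || !(x % p == 0)) && (p - 1) % s == 0 && Nat.ble 2 e &&
    L % (p * e) == 0 && Nat.ble 2 n && n % p == 1 &&
    Nat.ble (bigDivisors e).length (c.countP fun x => x % e == 0))

/-- The test for all self-centralising classes of prime order. -/
def pc (c : List ℕ) (L : ℕ) : Bool :=
  c.all fun p => !(Nat.ble 5 p) || !(isP p) || pcOne p c L

/-- The test for a single class with centraliser order the square of a prime. -/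
def sqOne (p : ℕ) (c : List ℕ) (L : ℕ) : Bool :=
  !(c.count (p * p) == 1 && (c.countP fun x => x % p == 0) == 1) ||
    (L % (p * p * (p * p - 1)) == 0 && Nat.ble 2 (L / (p * p * (p * p - 1))))

/-- The test for all squares of small primes. -/
def sq (c : List ℕ) (L : ℕ) : Bool := scPrimes.all fun p => sqOne p c L

/-- The test for classes with centraliser order six. -/
def six (c : List ℕ) (L : ℕ) : Bool :=
  let k := c.count 6
  let o := c.countP fun x => x % 12 == 6 && Nat.ble 7 x
  let inv := c.countP fun x => x % 12 == 0
  k == 0 || ((List.range (k + 1)).any fun x =>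
    Nat.ble 1 x && (if L % 9 == 0 then x == k else true) && Nat.ble x (o + (k - x)) &&
      Nat.ble x (2 * inv) && Nat.ble (k - x) x)

/-- Membership in an association list: the prime attached to a class, or zero. -/
def tagOf (d : List (ℕ × ℕ)) (i : ℕ) : ℕ :=
  match d with
  | [] => 0
  | (j, p) :: rest => if j == i then p else tagOf rest i

/-- An element of order divisible by `q` and by the order `r` of the class `j`, with both parts. -/
def part (c : List ℕ) (d : List (ℕ × ℕ)) (j r q : ℕ) : Bool :=
  (List.range c.length).any fun m =>
    !(m == j) && tagOf d m == 0 && c.getD j 0 % c.getD m 0 == 0 && c.getD m 0 % q == 0 &&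
      (r == 0 || c.getD m 0 % r == 0) &&
      ((List.range c.length).any fun l =>
        !(l == m) && !(l == j) && (tagOf d l == 0 || tagOf d l == q) &&
          c.getD l 0 % c.getD m 0 == 0)

/-- The classes with centraliser orders of composite support have witnesses. -/
def mixedOK (c ps : List ℕ) (d : List (ℕ × ℕ)) : Bool :=
  (List.range c.length).all fun i =>
    let fs := ps.filter fun q => c.getD i 0 % q == 0
    Nat.ble fs.length 1 || ((List.range c.length).any fun j =>
      c.getD j 0 % c.getD i 0 == 0 && ((0 :: fs).any fun r =>
        (tagOf d j == 0 || tagOf d j == r) && fs.all fun q => q == r || part c d j r q))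

/-- The full power of `p` dividing `n`. -/
def pPart (p n : ℕ) : ℕ → ℕ
  | 0 => 1
  | fuel + 1 => if n % p == 0 then p * pPart p (n / p) fuel else 1

/-- Search for classes of central elements of Sylow subgroups. -/
def search (c : List ℕ) (L : ℕ) (all : List ℕ) : List ℕ → List (ℕ × ℕ) → Bool
  | [], d => mixedOK c all d
  | p :: ps, d => (List.range c.length).any fun i =>
      c.getD i 0 % pPart p L 64 == 0 && tagOf d i == 0 && search c L all ps ((i, p) :: d)

/-- The prime divisors used by `mixed`. -/
def primesOf (c : List ℕ) : List ℕ := (c.flatMap pfs).eraseDups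

/-- The test on classes of mixed order. -/
def mixed (c : List ℕ) (L : ℕ) : Bool := search c L (primesOf c) (primesOf c) []

/-- The only vector passing all tests. -/
def special : List ℕ := [5, 5, 7, 7, 8, 9, 16, 64]

/-- A vector is excluded, small, or special. -/
def good (c : List ℕ) (L : ℕ) : Bool :=
  (Nat.blt L 6000 && !([660, 2448, 3420, 4080, 5616].elem L)) || !(pc c L) || !(sq c L) || !(six c L) || c == special || !(mixed c L)

/-- `List.any`, by the bare recursor. -/
noncomputable def anyMem (p : ℕ → Bool) (l : List ℕ) : Bool :=
  List.rec (motive := fun _ => Bool) false (fun a _ ih => p a || ih) l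

/-- A continuation that some test must exclude. -/
noncomputable def prune (pre : List ℕ) (x : ℕ) : Bool :=
  anyMem (fun p => Nat.beq (x % p) 0 && !(Nat.beq x p) && scPrimes.elem p) pre ||
    (Nat.ble x 97 && Nat.blt (x - 1) (2 * (pre.count x + 1)) && scPrimes.elem x)

/-- Evaluation of a number before it is passed on. -/
def force {α : Type} (n : ℕ) (f : ℕ → α) : α :=
  match n with
  | 0 => f 0
  | k + 1 => f (k + 1)

/-- The divisors `d'` and cofactors `t / d'` for `d ≤ d'` up to the square root of `t`. -/
noncomputable def divPairs (t : ℕ) (fuel : ℕ) : ℕ → List ℕ :=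
  Nat.rec (motive := fun _ => ℕ → List ℕ) (fun _ => [])
    (fun _ ih d₀ => force d₀ fun d =>
      cond (Nat.blt t (d * d)) []
        (cond (Nat.beq (t % d) 0) (d :: force (t / d) (· :: ih (d + 1))) (ih (d + 1)))) fuel

/-- The divisors of `M * t` from those of `M`. -/
noncomputable def moreDivs (D : List ℕ) (t : ℕ) : List ℕ :=
  if t == 1 then D else
    let S := divPairs t (t + 1) 1
    D.flatMap fun a => S.flatMap fun b => force (a * b) fun v => [v]

/-- The test of a last entry `x` with `gcd x M = g`. -/
noncomputable def leaf (pre : List ℕ) (M x g : ℕ) : Bool :=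
  !(Nat.beq (Nat.gcd x M) g) || prune pre x ||
    force (M / g * x) fun L => good (pre.reverse ++ [x]) L

/-- All of `lo, lo + 1, …, lo + k - 1`. -/
noncomputable def allFrom (p : ℕ → Bool) (k : ℕ) : ℕ → Bool :=
  Nat.rec (motive := fun _ => ℕ → Bool) (fun _ => true)
    (fun _ ih lo => force lo fun a => p a && ih (a + 1)) k

/-- `List.all`, by the bare recursor. -/
noncomputable def allMem (l : List ℕ) (p : ℕ → Bool) : Bool :=
  List.rec (motive := fun _ => Bool) true (fun a _ ih => p a && ih) l

/-- `pre` is the reversed prefix, `N / M` what remains of the class equation. -/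
noncomputable def dfs : ℕ → List ℕ → ℕ → ℕ → List ℕ → Bool
  | 0, pre, N, M, D =>
      force (max (pre.headD 5) (M / N + 1)) fun lo =>
      force (2 * M / N + 1 - lo) fun w =>
      if Nat.ble w 64 then allFrom (fun x => leaf pre M x (N * x - M)) w lo
      else allMem D fun g =>
        !(Nat.beq ((M + g) % N) 0) || force ((M + g) / N) fun x =>
          !(Nat.ble lo x) || leaf pre M x g
  | r + 1, pre, N, M, D =>
      force (max (pre.headD 5) (M / N + 1)) fun lo =>
      force ((r + 3) * M / N + 1 - lo) fun w =>
      allFrom (fun x =>
        prune pre x ||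
          force (x / Nat.gcd x M) fun t =>
          force (M * t) fun M' =>
          force (N * t - M' / x) fun N' =>
          dfs r (x :: pre) N' M' (moreDivs D t)) w lo

/-- The complete search. -/
noncomputable def check : Bool := dfs 7 [] 1 1 [1]

/-- The search below one first entry. -/
noncomputable def checkFrom (x : ℕ) : Bool := dfs 6 [x] (x - 1) x (moreDivs [1] x)

end CfsgLib.Spor.NineClasses
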