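import Cfsg.Agent.Lib.Spor.NineClasses.Defs
import Mathlib

/-!
# Soundness of the search over centraliser orders
-/

set_option autoImplicit false

namespace CfsgLib.Spor.NineClasses

theorem force_eq {α : Type} (n : ℕ) (f : ℕ → α) : force n f = f n := by
  cases n <;> rfl

theorem allFrom_iff (p : ℕ → Bool) : ∀ k lo,
    allFrom p k lo = true ↔ ∀ x ∈ List.range' lo k, p x = true := by
  intro k
  induction k with
  | zero => simp [allFrom]
  | succ k ih =>
    intro lo
    rw [show allFrom p (k + 1) lo = force lo fun a => p a && allFrom p k (a + 1) from rfl,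
      force_eq, Bool.and_eq_true, ih, List.range'_succ, List.forall_mem_cons]

theorem allMem_iff (l : List ℕ) (p : ℕ → Bool) : allMem l p = true ↔ ∀ a ∈ l, p a = true := by
  induction l with
  | nil => simp [allMem]
  | cons a l ih =>
    rw [show allMem (a :: l) p = (p a && allMem l p) from rfl, Bool.and_eq_true, ih,
      List.forall_mem_cons]

theorem mem_divPairs {t e : ℕ} : ∀ fuel d, d ≤ e → e * e ≤ t → e ∣ t → e < d + fuel →
    e ∈ divPairs t fuel d ∧ t / e ∈ divPairs t fuel d := by
  intro fuel
  induction fuel with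
  | zero => intro d h1 _ _ h4; omega
  | succ f ih =>
    intro d h1 h2 h3 h4
    rw [show divPairs t (f + 1) d = force d fun a => cond (Nat.blt t (a * a)) []
        (cond (Nat.beq (t % a) 0) (a :: force (t / a) (· :: divPairs t f (a + 1)))
          (divPairs t f (a + 1))) from rfl]
    simp only [force_eq]
    have hlt : Nat.blt t (d * d) = false := by
      rw [Bool.eq_false_iff]
      intro h
      rw [Nat.blt_eq] at h
      have := Nat.mul_le_mul h1 h1
      omega
    rw [hlt, cond_false]
    rcases eq_or_lt_of_le h1 with rfl | hlt'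
    · have h0 : Nat.beq (t % d) 0 = true := by rw [Nat.mod_eq_zero_of_dvd h3]; rfl
      rw [h0, cond_true]
      simp
    · obtain ⟨i1, i2⟩ := ih (d + 1) hlt' h2 h3 (by omega)
      cases Nat.beq (t % d) 0
      · exact ⟨i1, i2⟩
      · exact ⟨List.mem_cons_of_mem _ (List.mem_cons_of_mem _ i1),
          List.mem_cons_of_mem _ (List.mem_cons_of_mem _ i2)⟩

theorem mem_moreDivs {D : List ℕ} {M t : ℕ} (ht : 0 < t) (hD : ∀ g, g ∣ M → g ∈ D) {g : ℕ}
    (hg : g ∣ M * t) : g ∈ moreDivs D t := by
  unfold moreDivs
  by_cases h1 : t = 1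
  · subst h1
    simpa using hD g (by simpa using hg)
  · rw [if_neg (by simpa using h1)]
    obtain ⟨a, b, ha, ⟨q, hq⟩, rfl⟩ := exists_dvd_and_dvd_of_dvd_mul hg
    have hb0 : 0 < b := Nat.pos_of_mul_pos_right (hq ▸ ht)
    have hq0 : 0 < q := Nat.pos_of_mul_pos_left (hq ▸ ht)
    refine List.mem_flatMap.2 ⟨a, hD a ha, List.mem_flatMap.2 ⟨b, ?_, by simp [force_eq]⟩⟩
    rcases le_total b q with h | h
    · have h2 : b * b ≤ t := hq ▸ Nat.mul_le_mul_left b h
      have : b ≤ b * b := Nat.le_mul_self b
      exact (mem_divPairs _ 1 hb0 h2 ⟨q, hq⟩ (by omega)).1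
    · have h2 : q * q ≤ t := hq ▸ Nat.mul_le_mul_right q h
      have : q ≤ q * q := Nat.le_mul_self q
      have := (mem_divPairs (t + 1) 1 hq0 h2 ⟨b, by rw [hq, mul_comm]⟩ (by omega)).2
      rwa [show t / q = b by rw [hq, Nat.mul_div_cancel _ hq0]] at this

/-- The hypotheses on a suffix `l` of a vector with prefix `pre.reverse`. -/
structure Suffix (pre : List ℕ) (N M L : ℕ) (l : List ℕ) : Prop where
  hpos : 0 < L
  hM : M ∣ L
  hdvd : ∀ x ∈ l, x ∣ L
  hge : ∀ x ∈ l, pre.headD 5 ≤ x
  hsort : List.Pairwise (· ≤ ·) l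
  hlcm : ∀ K, M ∣ K → (∀ x ∈ l, x ∣ K) → L ∣ K
  heq : N * (L / M) = (l.map (L / ·)).sum + 1
  hprune : ∀ l₁ x l₂, l = l₁ ++ x :: l₂ → prune (l₁.reverse ++ pre) x = false

theorem dfs_sound (r : ℕ) : ∀ (pre : List ℕ) (N M L : ℕ) (D l : List ℕ),
    dfs r pre N M D = true → (∀ g, g ∣ M → g ∈ D) → Suffix pre N M L l → l.length = r + 1 →
      good (pre.reverse ++ l) L = true := by
  induction r with
  | zero =>
    intro pre N M L D l hd hD hs hl
    obtain ⟨x, rfl⟩ := List.length_eq_one_iff.1 hl
    have hx : x ∣ L := hs.hdvd x (by simp)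
    have hx0 : 0 < x := Nat.pos_of_dvd_of_pos hx hs.hpos
    have hM0 : 0 < M := Nat.pos_of_dvd_of_pos hs.hM hs.hpos
    have hL : L = M / Nat.gcd x M * x := by
      have h1 : L ∣ Nat.lcm M x := hs.hlcm _ (Nat.dvd_lcm_left M x)
        (by intro y hy; rw [List.mem_singleton.1 hy]; exact Nat.dvd_lcm_right M x)
      rw [Nat.dvd_antisymm h1 (Nat.lcm_dvd hs.hM hx), Nat.lcm, Nat.gcd_comm M x]
      exact Nat.mul_div_right_comm (Nat.gcd_dvd_right x M) x
    have hg0 : 0 < Nat.gcd x M := Nat.gcd_pos_of_pos_left _ hx0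
    have he := hs.heq
    simp only [List.map_cons, List.map_nil, List.sum_cons, List.sum_nil, Nat.add_zero] at he
    obtain ⟨a, ha⟩ := Nat.gcd_dvd_left x M
    obtain ⟨b, hb⟩ := Nat.gcd_dvd_right x M
    generalize hg : Nat.gcd x M = g at *
    subst ha hb
    have hb0 : 0 < b := Nat.pos_of_mul_pos_left hM0
    have ha0 : 0 < a := Nat.pos_of_mul_pos_left hx0
    rw [Nat.mul_div_cancel_left _ hg0] at hL
    have hLM : L / (g * b) = a := by
      rw [hL, show b * (g * a) = g * b * a by ring, Nat.mul_div_cancel_left _ hM0]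
    have hLx : L / (g * a) = b := by
      rw [hL, Nat.mul_div_cancel _ hx0]
    rw [hLM, hLx] at he
    have hNx : g * b + g = N * (g * a) := by
      rw [show N * (g * a) = g * (N * a) by ring, he]; ring
    rcases Nat.eq_zero_or_pos N with hN | hN
    · subst hN; simp at he
    have hdiv : (g * b + g) / N = g * a := by
      rw [hNx, Nat.mul_div_cancel_left _ hN]
    have hmod : Nat.beq ((g * b + g) % N) 0 = true := by rw [hNx, Nat.mul_mod_right]; rfl
    have hp : prune pre (g * a) = false := hs.hprune [] (g * a) [] rfl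
    have hlo : max (pre.headD 5) (g * b / N + 1) ≤ g * a := by
      have h1 : g * b < g * a * N := by rw [mul_comm (g * a) N, ← hNx]; omega
      exact max_le (hs.hge _ (by simp)) ((Nat.div_lt_iff_lt_mul hN).2 h1)
    have hleaf : leaf pre (g * b) (g * a) g = true →
        good (pre.reverse ++ [g * a]) L = true := by
      intro h
      have hgg : Nat.beq g g = true := Nat.beq_refl g
      simpa [leaf, hg, hgg, hp, force_eq, Nat.mul_div_cancel_left _ hg0, ← hL] using h
    apply hleaf
    simp only [dfs, force_eq] at hd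
    split_ifs at hd with hw
    · have hsub : N * (g * a) - g * b = g := by omega
      have hx2 : g * a ≤ 2 * (g * b) / N := by
        refine (Nat.le_div_iff_mul_le hN).2 ?_
        rw [mul_comm (g * a) N, ← hNx]
        have : g ≤ g * b := Nat.le_mul_of_pos_right g hb0
        omega
      have := (allFrom_iff _ _ _).1 hd (g * a) (by rw [List.mem_range'_1]; omega)
      rwa [hsub] at this
    · have := (allMem_iff _ _).1 hd g (hD g ⟨b, rfl⟩)
      have hle : Nat.ble (max (pre.headD 5) (g * b / N + 1)) (g * a) = true := by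
        rw [Nat.ble_eq]; exact hlo
      simpa only [hmod, hdiv, hle, force_eq, Bool.not_true, Bool.false_or] using this
  | succ r ih =>
    intro pre N M L D l hd hD hs hl
    obtain ⟨x, l', rfl⟩ : ∃ x l', l = x :: l' := by
      cases l with
      | nil => simp at hl
      | cons x l' => exact ⟨x, l', rfl⟩
    have hl' : l'.length = r + 1 := by simpa using hl
    have hx : x ∣ L := hs.hdvd x (by simp)
    have hx0 : 0 < x := Nat.pos_of_dvd_of_pos hx hs.hpos
    have hM0 : 0 < M := Nat.pos_of_dvd_of_pos hs.hM hs.hpos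
    set t := x / Nat.gcd x M with ht
    have hlcmM : M * t = Nat.lcm M x := by
      rw [ht, Nat.lcm, Nat.gcd_comm M x, Nat.mul_div_assoc _ (Nat.gcd_dvd_left x M)]
    have hM' : M * t ∣ L := hlcmM ▸ Nat.lcm_dvd hs.hM hx
    have hxM' : x ∣ M * t := hlcmM ▸ Nat.dvd_lcm_right M x
    have ht0 : 0 < t := Nat.pos_of_mul_pos_left (Nat.pos_of_dvd_of_pos hM' hs.hpos)
    obtain ⟨q, hq⟩ := hM'
    obtain ⟨y, hy⟩ := hxM'
    have hq0 : 0 < q := by
      rcases Nat.eq_zero_or_pos q with h | h
      · subst h; simp at hq; have := hs.hpos; omega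
      · exact h
    have hLM : L / M = t * q := by rw [hq, Nat.mul_assoc, Nat.mul_div_cancel_left _ hM0]
    have hLM' : L / (M * t) = q := by rw [hq, Nat.mul_div_cancel_left _ (Nat.mul_pos hM0 ht0)]
    have hLx : L / x = y * q := by rw [hq, hy, Nat.mul_assoc, Nat.mul_div_cancel_left _ hx0]
    have hM'x : M * t / x = y := by rw [hy, Nat.mul_div_cancel_left _ hx0]
    have he := hs.heq
    simp only [List.map_cons, List.sum_cons] at he
    rw [hLM, hLx] at he
    -- bounds
    have hlow : M < x * N := by
      have h1 : y * q < N * (t * q) := by omega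
      have h2 : y < N * t := by
        by_contra hcon
        push Not at hcon
        have h3 := Nat.mul_le_mul_right q hcon
        rw [show N * t * q = N * (t * q) by ring] at h3
        omega
      have h4 : M * t < x * N * t := by
        rw [hy, Nat.mul_assoc]; exact Nat.mul_lt_mul_of_pos_left h2 hx0
      exact Nat.lt_of_mul_lt_mul_right h4
    have hhigh : x * N ≤ (r + 3) * M := by
      have hsum : (l'.map (L / ·)).sum ≤ l'.length * (y * q) := by
        have := List.sum_le_card_nsmul (l'.map (L / ·)) (y * q) (by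
          intro z hz
          obtain ⟨w, hw, rfl⟩ := List.mem_map.1 hz
          rw [← hLx]
          exact Nat.div_le_div_left ((List.pairwise_cons.1 hs.hsort).1 w hw) hx0)
        simpa using this
      have h1 : 1 ≤ y * q := by
        rw [← hLx]; exact Nat.div_pos (Nat.le_of_dvd hs.hpos hx) hx0
      rw [hl'] at hsum
      have h2 : N * (t * q) ≤ (r + 3) * (y * q) := by
        rw [he, show (r + 3) * (y * q) = y * q + ((r + 1) * (y * q) + y * q) by ring]
        omega
      have h3 : N * t ≤ (r + 3) * y := by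
        refine Nat.le_of_mul_le_mul_right ?_ hq0
        rw [show N * t * q = N * (t * q) by ring, show (r + 3) * y * q = (r + 3) * (y * q) by ring]
        exact h2
      refine Nat.le_of_mul_le_mul_right ?_ ht0
      rw [show x * N * t = x * (N * t) by ring, show (r + 3) * M * t = (r + 3) * (M * t) by ring,
        hy, show (r + 3) * (x * y) = x * ((r + 3) * y) by ring]
      exact Nat.mul_le_mul_left x h3
    have hN : 0 < N := by
      rcases Nat.eq_zero_or_pos N with h | h
      · subst h; simp at hlow
      · exact h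
    simp only [dfs, force_eq] at hd
    have hmem : x ∈ List.range' (max (pre.headD 5) (M / N + 1))
        ((r + 3) * M / N + 1 - max (pre.headD 5) (M / N + 1)) := by
      rw [List.mem_range'_1]
      have h1 : M / N < x := (Nat.div_lt_iff_lt_mul hN).2 hlow
      have h2 : x ≤ (r + 3) * M / N := (Nat.le_div_iff_mul_le hN).2 hhigh
      have h3 := hs.hge x (by simp)
      omega
    have hd' := (allFrom_iff _ _ _).1 hd x hmem
    have hp : prune pre x = false := hs.hprune [] x l' rfl
    simp only [hp, Bool.false_or] at hd'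
    rw [← ht, hM'x] at hd'
    have := ih (x :: pre) (N * t - y) (M * t) L (moreDivs D t) l' hd'
      (fun g hg => mem_moreDivs ht0 hD hg)
      { hpos := hs.hpos
        hM := ⟨q, hq⟩
        hdvd := fun z hz => hs.hdvd z (List.mem_cons_of_mem _ hz)
        hge := fun z hz => by simpa using (List.pairwise_cons.1 hs.hsort).1 z hz
        hsort := (List.pairwise_cons.1 hs.hsort).2
        hlcm := fun K hK hl'' => hs.hlcm K (dvd_trans ⟨t, rfl⟩ hK) (by
          intro z hz
          rcases List.mem_cons.1 hz with rfl | hz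
          · exact dvd_trans ⟨y, hy⟩ hK
          · exact hl'' z hz)
        heq := by
          rw [hLM', Nat.sub_mul, show N * t * q = N * (t * q) by ring, he]
          omega
        hprune := fun l₁ z l₂ h => by
          have := hs.hprune (x :: l₁) z l₂ (by rw [h]; rfl)
          simpa using this } hl'
    simpa using this

/-- One step of the search. -/
theorem dfs_succ {r : ℕ} {pre : List ℕ} {N M : ℕ} {D : List ℕ} (lo w : ℕ)
    (hlo : max (pre.headD 5) (M / N + 1) = lo) (hw : (r + 3) * M / N + 1 - lo = w)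
    (h : ∀ x ∈ List.range' lo w, (prune pre x || dfs r (x :: pre)
      (N * (x / Nat.gcd x M) - M * (x / Nat.gcd x M) / x) (M * (x / Nat.gcd x M))
      (moreDivs D (x / Nat.gcd x M))) = true) :
    dfs (r + 1) pre N M D = true := by
  simp only [dfs, force_eq, hlo, hw]
  exact (allFrom_iff _ _ _).2 h

/-- A child already searched. -/
theorem of_child {r : ℕ} {pre : List ℕ} {x N M N' M' : ℕ} {D D' : List ℕ}
    (h : dfs r (x :: pre) N' M' D' = true) (hN : N' = N * (x / Nat.gcd x M) -
      M * (x / Nat.gcd x M) / x) (hM : M' = M * (x / Nat.gcd x M))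
    (hD : D' = moreDivs D (x / Nat.gcd x M)) :
    (prune pre x || dfs r (x :: pre) (N * (x / Nat.gcd x M) - M * (x / Nat.gcd x M) / x)
      (M * (x / Nat.gcd x M)) (moreDivs D (x / Nat.gcd x M))) = true := by
  rw [← hN, ← hM, ← hD, h, Bool.or_true]

theorem of_prune {pre : List ℕ} {x : ℕ} {b : Bool} (h : prune pre x = true) :
    (prune pre x || b) = true := by rw [h, Bool.true_or]

/-- Every vector of the class equation passing the pruning tests is found. -/
theorem good_of_check (hc : check = true) {L : ℕ} {c : List ℕ} (hlen : c.length = 8)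
    (hL : 0 < L) (hdvd : ∀ x ∈ c, x ∣ L) (h5 : ∀ x ∈ c, 5 ≤ x)
    (hsort : List.Pairwise (· ≤ ·) c) (hlcm : ∀ K, (∀ x ∈ c, x ∣ K) → L ∣ K)
    (heq : (c.map (L / ·)).sum + 1 = L)
    (hprune : ∀ l₁ x l₂, c = l₁ ++ x :: l₂ → prune l₁.reverse x = false) :
    good c L = true := by
  have := dfs_sound 7 [] 1 1 L [1] c hc (fun g hg => by simpa using hg)
    { hpos := hL, hM := one_dvd L, hdvd := hdvd, hge := fun x hx => by simpa using h5 x hx,
      hsort := hsort, hlcm := fun K _ h => hlcm K h, heq := by simpa using heq.symm,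
      hprune := fun l₁ x l₂ h => by simpa using hprune l₁ x l₂ h } (by rw [hlen])
  simpa using this

end CfsgLib.Spor.NineClasses
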