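import Cfsg.Agent.Lib.Spor.NineClasses.Prime

/-!
# Classes of elements of mixed order
-/

set_option autoImplicit false

open Subgroup

namespace CfsgLib.Spor.NineClasses

theorem mem_pfs {p m : ℕ} (h : p ∈ pfs m) : p.Prime ∧ p ∣ m := by
  simp only [pfs, List.mem_filter, Bool.and_eq_true, beq_iff_eq] at h
  exact ⟨isP_sound h.2.1, Nat.dvd_of_mod_eq_zero h.2.2⟩

theorem pPart_spec {p : ℕ} : ∀ fuel m, m ≠ 0 →
    ∃ k, pPart p m fuel = p ^ k ∧ p ^ k ∣ m := by
  intro fuel
  induction fuel with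
  | zero => intro m _; exact ⟨0, rfl, by simp⟩
  | succ f ih =>
    intro m hm
    rw [pPart]
    by_cases h : m % p = 0
    · have hd : p ∣ m := Nat.dvd_of_mod_eq_zero h
      have hm' : m / p ≠ 0 := fun h0 => hm (by rw [← Nat.div_mul_cancel hd, h0, zero_mul])
      obtain ⟨k, hk, hk'⟩ := ih (m / p) hm'
      refine ⟨k + 1, by simp [h, hk, pow_succ'], ?_⟩
      rw [pow_succ']
      exact dvd_trans (Nat.mul_dvd_mul_left p hk') (by rw [Nat.mul_div_cancel' hd])
    · exact ⟨0, by simp [h], by simp⟩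

theorem nodup_eraseDups_nat : ∀ (k : ℕ) (l : List ℕ), l.length ≤ k → l.eraseDups.Nodup := by
  intro k
  induction k with
  | zero => intro l hl; rw [List.length_eq_zero_iff.1 (Nat.le_zero.1 hl)]; simp
  | succ k ih =>
    intro l hl
    cases l with
    | nil => simp
    | cons a as =>
      rw [List.eraseDups_cons, List.nodup_cons]
      refine ⟨fun h => ?_, ih _ (le_trans (List.length_filter_le _ _) (by simpa using hl))⟩
      simp at h

variable {G : Type*} [Group G] [Finite G] {n : ℕ} (V : Vec G n)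

/-- All recorded classes consist of elements of the recorded prime order. -/
def Tagged (all : List ℕ) (d : List (ℕ × ℕ)) : Prop :=
  ∀ j p, (j, p) ∈ d → p ∈ all ∧ ∃ h : j < n, orderOf (V.rep ⟨j, h⟩) = p

theorem tagOf_spec : ∀ (d : List (ℕ × ℕ)) (i : ℕ), tagOf d i = 0 ∨ (i, tagOf d i) ∈ d := by
  intro d i
  induction d with
  | nil => exact Or.inl rfl
  | cons a d ih =>
    obtain ⟨j, p⟩ := a
    rw [tagOf]
    by_cases h : j = i
    · subst h
      simp
    · rcases ih with h' | h'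
      · simp [h, h']
      · exact Or.inr (by simp [h, h'])

theorem Tagged.order {all : List ℕ} {d : List (ℕ × ℕ)} (hd : Tagged V all d) (i : Fin n)
    (h : tagOf d i ≠ 0) : tagOf d i ∈ all ∧ orderOf (V.rep i) = tagOf d i := by
  obtain ⟨h1, _, h2⟩ := hd _ _ ((tagOf_spec d i).resolve_left h)
  exact ⟨h1, h2⟩

theorem mixedOK_sound {all : List ℕ} (hall : ∀ p ∈ all, p.Prime) {d : List (ℕ × ℕ)}
    (hd : Tagged V all d) : mixedOK V.cs all d = true := by
  simp only [mixedOK, List.all_eq_true, List.mem_range, V.length_cs]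
  intro i hi
  set x := V.rep ⟨i, hi⟩ with hx
  have hxc : V.cs.getD i 0 = cord x := V.getD_cs ⟨i, hi⟩
  rw [hxc, Bool.or_eq_true]
  set fs := all.filter fun q => cord x % q == 0 with hfs
  by_cases hlen : fs.length ≤ 1
  · exact Or.inl (by rw [Nat.ble_eq]; exact hlen)
  refine Or.inr ?_
  have hox : orderOf x ≠ 1 := fun h => V.ne_one ⟨i, hi⟩ (orderOf_eq_one_iff.1 h)
  set r := (orderOf x).minFac with hr
  have hrp : r.Prime := Nat.minFac_prime hox
  set v := x ^ (orderOf x / r) with hv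
  have hvo : orderOf v = r :=
    orderOf_pow_orderOf_div (orderOf_pos x).ne' (Nat.minFac_dvd _)
  have hv1 : v ≠ 1 := fun h => by rw [h, orderOf_one] at hvo; exact hrp.one_lt.ne hvo
  set j := V.idx v hv1 with hj
  simp only [List.any_eq_true, List.mem_range, Bool.and_eq_true, beq_iff_eq, Bool.or_eq_true,
    List.all_eq_true]
  have hcj : V.cs.getD j 0 = cord v := by rw [V.getD_cs, V.cord_idx]
  refine ⟨j, j.isLt, by rw [hcj]; exact Nat.mod_eq_zero_of_dvd (cord_dvd_cord_pow x _), ?_⟩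
  have hoj : orderOf (V.rep j) = r := by rw [V.orderOf_idx, hvo]
  have hrx : r ∣ cord x := (Nat.minFac_dvd _).trans (orderOf_dvd_cord x)
  have htag : tagOf d j = 0 ∨ (r ∈ fs ∧ tagOf d j = r) := by
    by_cases h : tagOf d j = 0
    · exact Or.inl h
    · obtain ⟨h1, h2⟩ := hd.order V j h
      rw [hoj] at h2
      refine Or.inr ⟨?_, h2.symm⟩
      rw [hfs, List.mem_filter, h2]
      exact ⟨h1, by simp [← h2, Nat.mod_eq_zero_of_dvd hrx]⟩
  refine ⟨if r ∈ fs then r else 0, ?_, ?_, ?_⟩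
  · split_ifs with h
    · exact List.mem_cons_of_mem _ h
    · exact List.mem_cons_self
  · rcases htag with h | ⟨h1, h2⟩
    · exact Or.inl h
    · exact Or.inr (by rw [h2, if_pos h1])
  intro q hq
  by_cases hqr : q = r
  · exact Or.inl (by rw [hqr, if_pos (hqr ▸ hq)])
  refine Or.inr ?_
  obtain ⟨hqa, hqd⟩ := List.mem_filter.1 hq
  have hqp := hall q hqa
  haveI : Fact q.Prime := ⟨hqp⟩
  obtain ⟨u, hu⟩ := exists_prime_orderOf_dvd_card' (G := centralizer ({x} : Set G)) q
    (Nat.dvd_of_mod_eq_zero (beq_iff_eq.1 hqd))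
  have huo : orderOf (u : G) = q := by rw [Subgroup.orderOf_coe, hu]
  have hcom : Commute v (u : G) := (commute_of_mem_centralizer u.2).pow_left _
  set g := v * (u : G) with hg
  have hgo : orderOf g = r * q := by
    rw [hg, hcom.orderOf_mul_eq_mul_orderOf_of_coprime, hvo, huo]
    rw [hvo, huo]
    exact (Nat.coprime_primes hrp hqp).2 (Ne.symm hqr)
  have hg1 : g ≠ 1 := fun h => by
    rw [h, orderOf_one] at hgo
    exact hrp.one_lt.ne (Nat.eq_one_of_mul_eq_one_right hgo.symm).symm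
  have hu1 : (u : G) ≠ 1 := fun h => by rw [h, orderOf_one] at huo; exact hqp.one_lt.ne huo
  have hgv : cord g ∣ cord v := by
    -- `v` is the power of `g` killing the `q`-part
    obtain ⟨k, hk⟩ : ∃ k : ℕ, g ^ k = v := by
      obtain ⟨k, hk1, hk2⟩ := Nat.chineseRemainder ((Nat.coprime_primes hrp hqp).2 (Ne.symm hqr)) 1 0
      refine ⟨k, ?_⟩
      rw [hg, hcom.mul_pow, ← pow_mod_orderOf v, ← pow_mod_orderOf (u : G), hvo, huo, hk1, hk2,
        Nat.one_mod_eq_one.2 hrp.one_lt.ne', Nat.zero_mod, pow_one, pow_zero, mul_one]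
    rw [← hk]; exact cord_dvd_cord_pow g k
  have hgu : cord g ∣ cord (u : G) := by
    obtain ⟨k, hk⟩ : ∃ k : ℕ, g ^ k = (u : G) := by
      obtain ⟨k, hk1, hk2⟩ := Nat.chineseRemainder ((Nat.coprime_primes hrp hqp).2 (Ne.symm hqr)) 0 1
      refine ⟨k, ?_⟩
      rw [hg, hcom.mul_pow, ← pow_mod_orderOf v, ← pow_mod_orderOf (u : G), hvo, huo, hk1, hk2,
        Nat.one_mod_eq_one.2 hqp.one_lt.ne', Nat.zero_mod, pow_one, pow_zero, one_mul]
    rw [← hk]; exact cord_dvd_cord_pow g k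
  set m := V.idx g hg1 with hm
  set l := V.idx (u : G) hu1 with hl
  have hom : orderOf (V.rep m) = r * q := by rw [V.orderOf_idx, hgo]
  have hol : orderOf (V.rep l) = q := by rw [V.orderOf_idx, huo]
  have hlt1 : r < r * q := lt_mul_of_one_lt_right hrp.pos hqp.one_lt
  have hlt2 : q < r * q := lt_mul_of_one_lt_left hqp.pos hrp.one_lt
  have hdm : r * q ∣ cord g := hgo ▸ orderOf_dvd_cord g
  simp only [part, List.any_eq_true, List.mem_range, Bool.and_eq_true, Bool.not_eq_true',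
    beq_eq_false_iff_ne, beq_iff_eq, Bool.or_eq_true, V.length_cs]
  refine ⟨m, m.isLt, ⟨⟨⟨⟨⟨?_, ?_⟩, ?_⟩, ?_⟩, ?_⟩, l, l.isLt, ⟨⟨⟨?_, ?_⟩, ?_⟩, ?_⟩⟩⟩
  · intro h
    rw [Fin.ext h] at hom
    omega
  · by_contra h
    obtain ⟨h1, h2⟩ := hd.order V m h
    have h3 := hall _ h1
    rw [← h2, hom] at h3
    exact Nat.not_prime_mul hrp.one_lt.ne' hqp.one_lt.ne' h3
  · rw [hcj, V.getD_cs, V.cord_idx]; exact Nat.mod_eq_zero_of_dvd hgv
  · rw [V.getD_cs, V.cord_idx]
    exact Nat.mod_eq_zero_of_dvd (dvd_trans (Dvd.intro_left r rfl) hdm)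
  · by_cases h : r ∈ fs
    · rw [if_pos h, V.getD_cs, V.cord_idx]
      exact Or.inr (Nat.mod_eq_zero_of_dvd (dvd_trans (Dvd.intro q rfl) hdm))
    · exact Or.inl (if_neg h)
  · intro h
    rw [Fin.ext h] at hol
    omega
  · intro h
    rw [Fin.ext h] at hol
    omega
  · by_cases h : tagOf d l = 0
    · exact Or.inl h
    · exact Or.inr (hol ▸ (hd.order V l h).2).symm
  · rw [V.getD_cs, V.getD_cs, V.cord_idx, V.cord_idx]; exact Nat.mod_eq_zero_of_dvd hgu

theorem search_sound {all : List ℕ} (hall : ∀ p ∈ all, p.Prime ∧ p ∣ Nat.card G) :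
    ∀ (ps : List ℕ) (d : List (ℕ × ℕ)), ps.Nodup → (∀ p ∈ ps, p ∈ all) →
      (∀ a ∈ d, a.2 ∉ ps) → Tagged V all d → search V.cs (Nat.card G) all ps d = true := by
  intro ps
  induction ps with
  | nil => intro d _ _ _ hd; exact mixedOK_sound V (fun p hp => (hall p hp).1) hd
  | cons p ps ih =>
    intro d hnd hsub hdisj hd
    obtain ⟨hp, hpG⟩ := hall p (hsub p List.mem_cons_self)
    obtain ⟨z, hz, hzc⟩ := exists_central hp hpG
    have hz1 : z ≠ 1 := fun h => by rw [h, orderOf_one] at hz; exact hp.one_lt.ne hz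
    set i := V.idx z hz1 with hi
    have hoi : orderOf (V.rep i) = p := by rw [V.orderOf_idx, hz]
    simp only [search, List.any_eq_true, List.mem_range, Bool.and_eq_true, beq_iff_eq, V.length_cs]
    refine ⟨i, i.isLt, ⟨?_, ?_⟩, ?_⟩
    · obtain ⟨k, hk, hk'⟩ := pPart_spec (p := p) 64 (Nat.card G) Nat.card_pos.ne'
      rw [V.getD_cs, V.cord_idx, hk]
      exact Nat.mod_eq_zero_of_dvd (hzc k hk')
    · by_contra h
      obtain ⟨-, h2⟩ := hd.order V i h
      exact hdisj _ ((tagOf_spec d i).resolve_left h)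
        (by rw [show tagOf d i = p from h2.symm.trans hoi]; exact List.mem_cons_self)
    · rw [List.nodup_cons] at hnd
      refine ih _ hnd.2 (fun q hq => hsub q (List.mem_cons_of_mem _ hq)) ?_ ?_
      · intro a ha
        rcases List.mem_cons.1 ha with rfl | ha
        · exact hnd.1
        · exact fun h => hdisj a ha (List.mem_cons_of_mem _ h)
      · intro j q hjq
        rcases List.mem_cons.1 hjq with h | h
        · rw [Prod.mk.injEq] at h
          obtain ⟨rfl, rfl⟩ := h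
          exact ⟨hsub _ List.mem_cons_self, i.isLt, hoi⟩
        · exact hd j q h

theorem mixed_sound : mixed V.cs (Nat.card G) = true := by
  refine search_sound V ?_ _ [] ?_ (fun p hp => hp) (by simp)
    (fun _ _ h => absurd h (by simp))
  · intro p hp
    rw [primesOf, List.mem_eraseDups, List.mem_flatMap] at hp
    obtain ⟨x, hx, hpx⟩ := hp
    obtain ⟨i, rfl⟩ := V.mem_cs.1 hx
    exact ⟨(mem_pfs hpx).1, (mem_pfs hpx).2.trans (cord_dvd _)⟩
  · exact nodup_eraseDups_nat _ _ le_rfl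

end CfsgLib.Spor.NineClasses
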