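import Cfsg.Agent.Lib.Spor.NineClasses.Prime

/-!
# Classes whose centralisers have order six
-/

set_option autoImplicit false

open Subgroup

namespace CfsgLib.Spor.NineClasses

variable {G : Type*} [Group G] [Finite G]

/-- If `p²` divides `|C(a)|` and `b` has order `p` in `C(a)`, it divides `|C(a) ∩ C(b)|`. -/
theorem sq_dvd_inf {p : ℕ} (hp : p.Prime) {a b : G} (hb : orderOf b = p)
    (hba : b ∈ centralizer ({a} : Set G)) (h : p ^ 2 ∣ cord a) :
    p ^ 2 ∣ Nat.card (centralizer ({a} : Set G) ⊓ centralizer ({b} : Set G) : Subgroup G) := by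
  have h1 : p ^ 2 ∣ cord (⟨b, hba⟩ : centralizer ({a} : Set G)) :=
    sq_dvd_centralizer hp (by rw [Subgroup.orderOf_mk, hb]) h
  have hm : (centralizer ({(⟨b, hba⟩ : centralizer ({a} : Set G))} : Set _)).map
      (centralizer ({a} : Set G)).subtype =
        centralizer ({a} : Set G) ⊓ centralizer ({b} : Set G) := by
    ext y
    constructor
    · rintro ⟨⟨z, hz⟩, hzc, rfl⟩
      exact ⟨hz, mem_centralizer_singleton_iff.2
        (congrArg Subtype.val (mem_centralizer_singleton_iff.1 hzc))⟩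
    · rintro ⟨hy, hyb⟩
      exact ⟨⟨y, hy⟩, mem_centralizer_singleton_iff.2
        (Subtype.ext (mem_centralizer_singleton_iff.1 hyb)), rfl⟩
  rw [← hm, Subgroup.card_map_of_injective (centralizer ({a} : Set G)).subtype_injective]
  exact h1

/-- An element of order six with centraliser of order six. -/
structure SixElt (g : G) : Prop where
  ho : orderOf g = 6
  hc : cord g = 6

namespace SixElt

variable {g : G} (S : SixElt g)
include S

theorem ho2 : orderOf (g ^ 2) = 3 := by rw [orderOf_pow, S.ho]; rfl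

theorem ho3 : orderOf (g ^ 3) = 2 := by rw [orderOf_pow, S.ho]; rfl

theorem inf_le : Nat.card (centralizer ({g ^ 2} : Set G) ⊓ centralizer ({g ^ 3} : Set G) :
    Subgroup G) ∣ 6 := by
  rw [← S.hc]
  refine card_dvd_of_le fun y hy => mem_centralizer_of_commute ?_
  have h1 := commute_of_mem_centralizer hy.1
  have h2 := commute_of_mem_centralizer hy.2
  have hg : g = g ^ 3 * (g ^ 2)⁻¹ := by group
  rw [hg]
  exact h2.mul_left h1.inv_left

theorem six_dvd_two : 6 ∣ cord (g ^ 2) := S.hc ▸ cord_dvd_cord_pow g 2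

theorem six_dvd_three : 6 ∣ cord (g ^ 3) := S.hc ▸ cord_dvd_cord_pow g 3

theorem mod_twelve : cord (g ^ 2) % 12 = 6 := by
  have h6 := S.six_dvd_two
  have h4 : ¬ 4 ∣ cord (g ^ 2) := fun h => by
    have h' := sq_dvd_inf Nat.prime_two S.ho3
      (mem_centralizer_of_commute (Commute.pow_pow_self g 2 3)) (by norm_num; exact h)
    have := h'.trans S.inf_le
    norm_num at this
  omega

theorem twelve_dvd (h4 : 4 ∣ Nat.card G) : 12 ∣ cord (g ^ 3) := by
  have := sq_dvd_centralizer Nat.prime_two S.ho3 (by norm_num; exact h4)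
  have := S.six_dvd_three
  norm_num at *
  omega

theorem not_nine_dvd : ¬ 9 ∣ cord (g ^ 3) := fun h => by
  have h' := sq_dvd_inf Nat.prime_three S.ho2
    (mem_centralizer_of_commute (Commute.pow_pow_self g 3 2)) (by norm_num; exact h)
  rw [inf_comm] at h'
  have := h'.trans S.inf_le
  norm_num at this

end SixElt

theorem zpowers_sylow_eq {p : ℕ} [hp : Fact p.Prime] {H : Subgroup G} (hH : ¬ p ^ 2 ∣ Nat.card H)
    {a b : G} (ha : orderOf a = p) (hb : orderOf b = p) (haH : a ∈ H) (hbH : b ∈ H) :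
    ∃ h ∈ H, h * b * h⁻¹ ∈ zpowers a := by
  have hS : ∀ R : Sylow p H, Nat.card (R : Subgroup H) ≤ p := fun R => by
    obtain ⟨k, hk⟩ := IsPGroup.iff_card.1 R.2
    rw [hk]
    rcases Nat.lt_or_ge k 2 with h | h
    · exact le_trans (Nat.pow_le_pow_right hp.out.pos (show k ≤ 1 by omega)) (pow_one p).le
    · exact absurd (dvd_trans (dvd_trans (pow_dvd_pow p h) hk.symm.dvd)
        (card_subgroup_dvd_card _)) hH
  have hcard : ∀ (c : G) (hc : c ∈ H), orderOf c = p →
      Nat.card (zpowers (⟨c, hc⟩ : H)) = p ^ 1 := fun c hc h => by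
    rw [Nat.card_zpowers, Subgroup.orderOf_mk, h, pow_one]
  obtain ⟨P, hP⟩ := (IsPGroup.of_card (hcard a haH ha)).exists_le_sylow
  obtain ⟨Q, hQ⟩ := (IsPGroup.of_card (hcard b hbH hb)).exists_le_sylow
  obtain ⟨h, hh⟩ := MulAction.exists_smul_eq H Q P
  refine ⟨(h : G), h.2, ?_⟩
  have hP' : zpowers (⟨a, haH⟩ : H) = (P : Subgroup H) := Subgroup.eq_of_le_of_card_ge hP
    (by rw [hcard a haH ha, pow_one]; exact hS P)
  have hm : h * ⟨b, hbH⟩ * h⁻¹ ∈ (P : Subgroup H) := by
    rw [← hh, Sylow.coe_subgroup_smul]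
    exact Subgroup.mem_map.2 ⟨_, hQ (mem_zpowers _), rfl⟩
  rw [← hP'] at hm
  obtain ⟨m, hm⟩ := mem_zpowers_iff.1 hm
  exact mem_zpowers_iff.2 ⟨m, by simpa using congrArg Subtype.val hm⟩

theorem SixElt.isConj_of_sq {g g' : G} (S : SixElt g) (S' : SixElt g') (h : g ^ 2 = g' ^ 2) :
    IsConj g g' := by
  haveI : Fact (Nat.Prime 2) := ⟨Nat.prime_two⟩
  have hsq : ¬ 2 ^ 2 ∣ Nat.card (centralizer ({g ^ 2} : Set G)) := fun hd => by
    have h12 : cord (g ^ 2) % 12 = 6 := S.mod_twelve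
    have h4 : 4 ∣ cord (g ^ 2) := by norm_num at hd; exact hd
    omega
  obtain ⟨a, ha, hm⟩ := zpowers_sylow_eq hsq S.ho3 S'.ho3
    (mem_centralizer_of_commute (Commute.pow_pow_self g 2 3))
    (h ▸ mem_centralizer_of_commute (Commute.pow_pow_self g' 2 3))
  have ha2 := commute_of_mem_centralizer ha
  obtain ⟨m, hm⟩ := mem_zpowers_iff.1 hm
  have hgm : (g ^ 3) ^ m = g ^ 3 := by
    rw [← zpow_mod_orderOf, S.ho3]
    rcases Int.emod_two_eq_zero_or_one m with hm0 | hm1
    · exfalso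
      have h0 : (g ^ 3) ^ m = 1 := by
        rw [← zpow_mod_orderOf, S.ho3]; simp [hm0]
      rw [h0] at hm
      have : g' ^ 3 = 1 := conj_eq_one_iff.1 hm.symm
      have h3 := S'.ho3
      rw [this, orderOf_one] at h3
      omega
    · simp [hm1]
  rw [hgm] at hm
  refine IsConj.symm (isConj_iff.2 ⟨a, ?_⟩)
  have e : ∀ x : G, x = x ^ 3 * (x ^ 2)⁻¹ := fun x => by group
  rw [e g', e g, conj_mul.symm, ← hm, ← h]
  congr 1
  rw [conj_inv.symm, ha2.symm.mul_inv_cancel]

theorem SixElt.isConj_or_of_cube {g g' : G} (S : SixElt g) (S' : SixElt g') (h : g ^ 3 = g' ^ 3) :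
    IsConj g g' ∨ IsConj g⁻¹ g' := by
  haveI : Fact (Nat.Prime 3) := ⟨Nat.prime_three⟩
  have hsq : ¬ 3 ^ 2 ∣ Nat.card (centralizer ({g ^ 3} : Set G)) := fun hd =>
    S.not_nine_dvd (by norm_num at hd; exact hd)
  obtain ⟨a, ha, hm⟩ := zpowers_sylow_eq hsq S.ho2 S'.ho2
    (mem_centralizer_of_commute (Commute.pow_pow_self g 3 2))
    (h ▸ mem_centralizer_of_commute (Commute.pow_pow_self g' 3 2))
  have ha3 := commute_of_mem_centralizer ha
  obtain ⟨m, hm⟩ := mem_zpowers_iff.1 hm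
  have hz : a * g' ^ 3 * a⁻¹ = g ^ 3 := by rw [← h]; exact ha3.symm.mul_inv_cancel
  have e : ∀ x : G, x = x ^ 3 * (x ^ 2)⁻¹ := fun x => by group
  have hg' : a * g' * a⁻¹ = g ^ 3 * ((g ^ 2) ^ m)⁻¹ := by
    conv_lhs => rw [e g']
    rw [conj_mul.symm, hz, conj_inv.symm, hm]
  rw [← zpow_mod_orderOf, S.ho2] at hm hg'
  have h1 := Int.emod_nonneg m (show (3 : ℤ) ≠ 0 by norm_num)
  have h2 := Int.emod_lt_of_pos m (show (0 : ℤ) < 3 by norm_num)
  push_cast at hm hg'
  generalize m % 3 = k at hm hg' h1 h2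
  interval_cases k
  · exfalso
    simp only [zpow_zero] at hm
    have : g' ^ 2 = 1 := conj_eq_one_iff.1 hm.symm
    have h3 := S'.ho2
    rw [this, orderOf_one] at h3
    omega
  · refine Or.inl (IsConj.symm (isConj_iff.2 ⟨a, ?_⟩))
    rw [hg', zpow_one, ← e g]
  · refine Or.inr (IsConj.symm (isConj_iff.2 ⟨a, ?_⟩))
    have h6 : g ^ 6 = 1 := S.ho ▸ pow_orderOf_eq_one g
    rw [hg', show g ^ 3 * ((g ^ 2) ^ (2 : ℤ))⁻¹ = g⁻¹ by group]

theorem six_type (h4 : 4 ∣ Nat.card G) {x : G} (hx : x ≠ 1) (hc : cord x = 6) :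
    orderOf x = 3 ∨ orderOf x = 6 := by
  have hd : orderOf x ∣ 6 := hc ▸ orderOf_dvd_cord x
  have := Nat.le_of_dvd (by norm_num) hd
  have h1 : orderOf x ≠ 1 := fun h => hx (orderOf_eq_one_iff.1 h)
  have h2 : orderOf x ≠ 2 := fun h => by
    have := sq_dvd_centralizer Nat.prime_two h (by norm_num; exact h4)
    rw [hc] at this
    norm_num at this
  have h0 := orderOf_pos x
  interval_cases hk : orderOf x <;> omega

theorem exists_sixElt {y : G} (hy : orderOf y = 3) (hc : cord y = 6) :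
    ∃ g : G, SixElt g ∧ g ^ 2 = y := by
  haveI : Fact (Nat.Prime 2) := ⟨Nat.prime_two⟩
  obtain ⟨t, ht⟩ := exists_prime_orderOf_dvd_card' (G := centralizer ({y} : Set G)) 2
    (by rw [← cord, hc]; norm_num)
  have hto : orderOf (t : G) = 2 := by rw [Subgroup.orderOf_coe, ht]
  have hcom : Commute (t : G) y := (commute_of_mem_centralizer t.2).symm
  have ht2 : (t : G) ^ 2 = 1 := hto ▸ pow_orderOf_eq_one _
  have hy3 : y ^ 3 = 1 := hy ▸ pow_orderOf_eq_one _
  have hsq : ((t : G) * y ^ 2) ^ 2 = y := by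
    rw [(hcom.pow_right 2).mul_pow, ht2, one_mul, ← pow_mul,
      show 2 * 2 = 3 + 1 from rfl, pow_succ, hy3, one_mul]
  have ho : orderOf ((t : G) * y ^ 2) = 6 := by
    rw [(hcom.pow_right 2).orderOf_mul_eq_mul_orderOf_of_coprime
      (by rw [hto, orderOf_pow, hy]; rfl), hto, orderOf_pow, hy]
    rfl
  refine ⟨(t : G) * y ^ 2, ⟨ho, Nat.dvd_antisymm ?_ (ho ▸ orderOf_dvd_cord _)⟩, hsq⟩
  have := cord_dvd_cord_pow ((t : G) * y ^ 2) 2
  rwa [hsq, hc] at this

theorem six_sound [IsSimpleGroup G] (hG : ¬ IsMulCommutative G) {n : ℕ} (V : Vec G n) :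
    six V.cs (Nat.card G) = true := by
  classical
  by_cases hk : 6 ∈ V.cs
  swap
  · simp [six, List.count_eq_zero.2 hk]
  obtain ⟨i0, hi0⟩ := V.mem_cs.1 hk
  have h4 : 4 ∣ Nat.card G := CfsgLib.Small.four_dvd_of_even hG
    (even_iff_two_dvd.2 (dvd_trans (by norm_num) (hi0 ▸ cord_dvd (V.rep i0))))
  let O := Finset.univ.filter fun i => cord (V.rep i) = 6
  let X := O.filter fun i => orderOf (V.rep i) = 6
  let Y := O.filter fun i => ¬ orderOf (V.rep i) = 6
  let B := Finset.univ.filter fun i => cord (V.rep i) % 12 = 6 ∧ 7 ≤ cord (V.rep i)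
  let I := Finset.univ.filter fun i => cord (V.rep i) % 12 = 0
  have hX : ∀ {i}, i ∈ X → SixElt (V.rep i) := fun hi => by
    simp only [X, O, Finset.mem_filter] at hi
    exact ⟨hi.2, hi.1.2⟩
  have hY : ∀ {i}, i ∈ Y → orderOf (V.rep i) = 3 ∧ cord (V.rep i) = 6 := fun {i} hi => by
    simp only [Y, O, Finset.mem_filter] at hi
    rcases six_type h4 (V.ne_one i) hi.1.2 with h | h
    · exact ⟨h, hi.1.2⟩
    · exact absurd h hi.2
  have hne : ∀ {i} (_ : i ∈ X) (k : ℕ), k = 2 ∨ k = 3 → V.rep i ^ k ≠ 1 := by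
    intro i hi k hk h
    have := orderOf_dvd_of_pow_eq_one h
    rw [(hX hi).ho] at this
    rcases hk with rfl | rfl <;> norm_num at this
  let f2 : Fin n → Fin n := fun i =>
    if h : V.rep i ^ 2 ≠ 1 then V.idx _ h else i
  let f3 : Fin n → Fin n := fun i =>
    if h : V.rep i ^ 3 ≠ 1 then V.idx _ h else i
  have hXB : X.card ≤ B.card + Y.card := by
    refine le_trans (Finset.card_le_card_of_injOn (t := B ∪ Y) f2 ?_ ?_) (Finset.card_union_le _ _)
    · intro i hi
      simp only [f2, dif_pos (hne hi 2 (Or.inl rfl)), Finset.coe_union, Set.mem_union,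
        Finset.mem_coe, B, Y, O, Finset.mem_filter, Finset.mem_univ, true_and, V.cord_idx,
        V.orderOf_idx, (hX hi).ho2]
      have := (hX hi).mod_twelve
      omega
    · intro i hi j hj h
      simp only [f2, dif_pos (hne hi 2 (Or.inl rfl)), dif_pos (hne hj 2 (Or.inl rfl))] at h
      obtain ⟨a, ha⟩ := isConj_iff.1 ((V.idx_eq_iff _ _).1 h)
      refine V.inj i j (IsConj.trans (isConj_iff.2 ⟨a, rfl⟩) ?_)
      refine SixElt.isConj_of_sq ⟨?_, ?_⟩ (hX hj) (by rw [conj_pow, ha])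
      · rw [← orderOf_conj (isConj_iff.2 ⟨a, rfl⟩), (hX hi).ho]
      · rw [← cord_conj (isConj_iff.2 ⟨a, rfl⟩), (hX hi).hc]
  have hYX : Y.card ≤ X.card := by
    refine le_trans (Finset.card_le_card fun y hy => ?_) (Finset.card_image_le (s := X) (f := f2))
    obtain ⟨g, S, hg⟩ := exists_sixElt (hY hy).1 (hY hy).2
    have hg1 : g ≠ 1 := fun e => by have := S.ho; rw [e, orderOf_one] at this; omega
    have hi : V.idx g hg1 ∈ X := by
      simp [X, O, V.cord_idx, V.orderOf_idx, S.hc, S.ho]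
    refine Finset.mem_image.2 ⟨_, hi, ?_⟩
    simp only [f2, dif_pos (hne hi 2 (Or.inl rfl))]
    refine V.inj _ _ ((V.isConj_idx _ _).trans ?_)
    rw [← hg]
    exact (V.isConj_idx g hg1).pow 2
  have hXI : X.card ≤ 2 * I.card := by
    refine Finset.card_le_mul_card_image_of_maps_to (f := f3) ?_ 2 ?_
    · intro i hi
      simp only [I, Finset.mem_filter, Finset.mem_univ, true_and, f3,
        dif_pos (hne hi 3 (Or.inr rfl)), V.cord_idx]
      exact Nat.mod_eq_zero_of_dvd ((hX hi).twelve_dvd h4)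
    · intro b _
      rcases (X.filter fun a => f3 a = b).eq_empty_or_nonempty with h | ⟨i, hi⟩
      · simp [h]
      rw [Finset.mem_filter] at hi
      have hinv : (V.rep i)⁻¹ ≠ 1 := by simpa using V.ne_one i
      refine le_trans (Finset.card_le_card (t := {i, V.idx _ hinv}) ?_) Finset.card_le_two
      intro j hj
      rw [Finset.mem_filter] at hj
      have h : f3 j = f3 i := hj.2.trans hi.2.symm
      simp only [f3, dif_pos (hne hj.1 3 (Or.inr rfl)), dif_pos (hne hi.1 3 (Or.inr rfl))] at h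
      obtain ⟨a, ha⟩ := isConj_iff.1 ((V.idx_eq_iff _ _).1 h)
      have hc : IsConj (V.rep j) (a * V.rep j * a⁻¹) := isConj_iff.2 ⟨a, rfl⟩
      rcases SixElt.isConj_or_of_cube (hX hi.1)
        (g' := a * V.rep j * a⁻¹) ⟨by rw [← orderOf_conj hc, (hX hj.1).ho],
          by rw [← cord_conj hc, (hX hj.1).hc]⟩ (by rw [conj_pow, ha]) with h' | h'
      · exact Finset.mem_insert.2 (Or.inl (V.inj _ _ (hc.trans h'.symm)))
      · refine Finset.mem_insert.2 (Or.inr (Finset.mem_singleton.2 (V.inj _ _ ?_)))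
        exact (hc.trans h'.symm).trans (V.isConj_idx _ hinv).symm
  have hsum : X.card + Y.card = O.card := Finset.card_filter_add_card_filter_not _
  have hO : O.card = V.cs.count 6 := by
    rw [List.count, V.countP_cs, Nat.card_eq_fintype_card, Fintype.card_subtype]
    simp [O]
  have hB : B.card = V.cs.countP fun x => x % 12 == 6 && Nat.ble 7 x := by
    rw [V.countP_cs, Nat.card_eq_fintype_card, Fintype.card_subtype]
    simp [B]
  have hI : I.card = V.cs.countP fun x => x % 12 == 0 := by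
    rw [V.countP_cs, Nat.card_eq_fintype_card, Fintype.card_subtype]
    simp [I]
  have h1 : 1 ≤ X.card := by
    rcases Nat.eq_zero_or_pos X.card with h | h
    · have : 0 < V.cs.count 6 := List.count_pos_iff.2 hk
      omega
    · exact h
  simp only [six, Bool.or_eq_true, beq_iff_eq, List.any_eq_true, List.mem_range,
    Bool.and_eq_true, Nat.ble_eq, ← hO, ← hB, ← hI]
  refine Or.inr ⟨X.card, by omega, ⟨⟨⟨h1, ?_⟩, by omega⟩, by omega⟩, by omega⟩
  split_ifs with h9
  · rw [beq_iff_eq]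
    have hY0 : Y.card = 0 := by
      rw [Finset.card_eq_zero]
      refine Finset.eq_empty_of_forall_notMem fun y hy => ?_
      have := sq_dvd_centralizer Nat.prime_three (hY hy).1 (Nat.dvd_of_mod_eq_zero h9)
      rw [(hY hy).2] at this
      norm_num at this
    omega
  · rfl

end CfsgLib.Spor.NineClasses
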