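import Cfsg.Agent.Lib.Spor.NineClasses.Vec
import Cfsg.Agent.S0494
import Cfsg.Agent.S0497
import Cfsg.Agent.S1005
import Cfsg.Agent.S1006

/-!
# The simple groups of order 60, 168 and 360 have at most seven classes
-/

set_option autoImplicit false

open Equiv

namespace CfsgLib.Spor.NineClasses

variable {G : Type*} [Group G] [Finite G]

theorem card_classes_le_of_reps (R : List G) (h : ∀ g : G, ∃ r ∈ R, IsConj r g) :
    Nat.card (ConjClasses G) ≤ R.length := by
  have hs : Function.Surjective fun i : Fin R.length => ConjClasses.mk (R.get i) := by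
    intro C
    obtain ⟨g, rfl⟩ := ConjClasses.mk_surjective C
    obtain ⟨r, hr, hrg⟩ := h g
    obtain ⟨i, hi⟩ := List.mem_iff_get.1 hr
    exact ⟨i, by simp only [hi]; exact ConjClasses.mk_eq_mk_iff_isConj.2 hrg⟩
  simpa using Nat.card_le_card_of_surjective _ hs

theorem card_classes_le_of_alternating {m : ℕ} (e : G ≃* alternatingGroup (Fin m))
    (R : List (Perm (Fin m)))
    (h : ∀ g : Perm (Fin m), Perm.sign g = 1 →
      ∃ r ∈ R, ∃ c : Perm (Fin m), Perm.sign c = 1 ∧ c * r = g * c) :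
    Nat.card (ConjClasses G) ≤ R.length := by
  classical
  let lift : Perm (Fin m) → G := fun r =>
    if hr : r ∈ alternatingGroup (Fin m) then e.symm ⟨r, hr⟩ else 1
  refine le_of_le_of_eq (card_classes_le_of_reps (R.map lift) fun g => ?_) (List.length_map _)
  obtain ⟨r, hr, c, hc, hcr⟩ := h (e g) (e g).2
  have hr' : r ∈ alternatingGroup (Fin m) := by
    have : r = c⁻¹ * (e g : Perm (Fin m)) * c := by rw [mul_assoc, ← hcr, inv_mul_cancel_left]
    rw [this]
    exact mul_mem (mul_mem (inv_mem hc) (e g).2) hc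
  refine ⟨lift r, List.mem_map_of_mem hr, isConj_iff.2 ⟨e.symm ⟨c, hc⟩, e.injective ?_⟩⟩
  simp only [lift, dif_pos hr', map_mul, map_inv, MulEquiv.apply_symm_apply]
  ext1
  simp [hcr]

/-- Representatives of the classes of `A₅`. -/
def repsFive : List (Perm (Fin 5)) :=
  [1, swap 0 1 * swap 2 3, swap 0 1 * swap 1 2, swap 0 1 * swap 1 2 * swap 2 3 * swap 3 4,
    (swap 0 1 * swap 1 2 * swap 2 3 * swap 3 4) ^ 2]

theorem repsFive_spec : ∀ g : Perm (Fin 5), Perm.sign g = 1 →
    ∃ r ∈ repsFive, ∃ c : Perm (Fin 5), Perm.sign c = 1 ∧ c * r = g * c := by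
  decide +kernel

/-- Representatives of the classes of `A₆`. -/
def repsSix : List (Perm (Fin 6)) :=
  [1, swap 0 1 * swap 2 3, swap 0 1 * swap 1 2, swap 0 1 * swap 1 2 * (swap 3 4 * swap 4 5),
    swap 0 1 * swap 1 2 * swap 2 3 * swap 4 5, swap 0 1 * swap 1 2 * swap 2 3 * swap 3 4,
    (swap 0 1 * swap 1 2 * swap 2 3 * swap 3 4) ^ 2]

theorem repsSix_cycleType : ∀ g : Perm (Fin 6), Perm.sign g = 1 →
    ∃ r ∈ repsSix, g.cycleType = r.cycleType := by
  decide +kernel

theorem repsSix_odd : ∀ r ∈ repsSix,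
    ∃ o ∈ [swap 4 5, swap 0 1, swap 0 3 * swap 1 4 * swap 2 5,
      swap 1 2 * swap 2 4 * swap 4 3, swap 4 3 * swap 2 4 * swap 1 2],
      Perm.sign o = -1 ∧ o * r * o⁻¹ ∈ repsSix := by
  decide +kernel

theorem repsSix_spec (g : Perm (Fin 6)) (hg : Perm.sign g = 1) :
    ∃ r ∈ repsSix, ∃ c : Perm (Fin 6), Perm.sign c = 1 ∧ c * r = g * c := by
  obtain ⟨r, hr, hct⟩ := repsSix_cycleType g hg
  obtain ⟨c, hc⟩ := isConj_iff.1 (Perm.isConj_iff_cycleType_eq.2 hct.symm)
  rcases Int.units_eq_one_or (Perm.sign c) with h | h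
  · exact ⟨r, hr, c, h, by rw [← hc]; group⟩
  · obtain ⟨o, -, ho, hor⟩ := repsSix_odd r hr
    refine ⟨_, hor, c * o⁻¹, by rw [map_mul, map_inv, h, ho]; rfl, ?_⟩
    rw [← hc]; group

theorem card_classes_le_seven [IsSimpleGroup G]
    (h : Nat.card G = 60 ∨ Nat.card G = 168 ∨ Nat.card G = 360) :
    Nat.card (ConjClasses G) ≤ 7 := by
  rcases h with h | h | h
  · obtain ⟨e⟩ := Cfsg.Agent.S0494.result h
    exact (card_classes_le_of_alternating e repsFive repsFive_spec).trans (by decide)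
  · obtain ⟨hord, -, h2⟩ := Cfsg.Agent.S1005.result h
    obtain ⟨-, h3, -, h4, hc7, h7⟩ := Cfsg.Agent.S1006.result h
    have hex : ∀ p : ℕ, p.Prime → p ∣ 168 → ∃ x : G, orderOf x = p := fun p hp hd =>
      have := Fact.mk hp
      exists_prime_orderOf_dvd_card' p (h ▸ hd)
    obtain ⟨t, ht⟩ := hex 2 Nat.prime_two (by norm_num)
    obtain ⟨s, hs⟩ := hex 3 Nat.prime_three (by norm_num)
    obtain ⟨x, hx⟩ := hex 7 (by norm_num) (by norm_num)
    classical
    have hx7 : ∀ y : G, orderOf y = 7 → IsConj x y ∨ IsConj x⁻¹ y := by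
      have hinv : orderOf x⁻¹ = 7 := by rw [orderOf_inv, hx]
      let f : {g : G // IsConj x g} ⊕ {g : G // IsConj x⁻¹ g} → {g : G // orderOf g = 7} :=
        Sum.elim (fun z => ⟨z.1, by rw [← orderOf_conj z.2, hx]⟩)
          fun z => ⟨z.1, by rw [← orderOf_conj z.2, hinv]⟩
      have hf : Function.Injective f := by
        rintro (⟨a, ha⟩ | ⟨a, ha⟩) (⟨b, hb⟩ | ⟨b, hb⟩) hab <;>
          simp only [f, Sum.elim_inl, Sum.elim_inr, Subtype.mk.injEq] at hab <;> subst hab
        · rfl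
        · exact absurd (ha.trans hb.symm) (h7 x hx).2
        · exact absurd (hb.trans ha.symm) (h7 x hx).2
        · rfl
      have hb := (Nat.bijective_iff_injective_and_card f).2 ⟨hf, by
        rw [Nat.card_sum, (h7 x hx).1, (h7 x⁻¹ hinv).1, hc7]⟩
      intro y hy
      obtain ⟨⟨a, ha⟩ | ⟨a, ha⟩, he⟩ := hb.2 ⟨y, hy⟩
      · have e : a = y := congrArg Subtype.val he
        exact Or.inl (e ▸ ha)
      · have e : a = y := congrArg Subtype.val he
        exact Or.inr (e ▸ ha)
    by_cases hf4 : ∃ f : G, orderOf f = 4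
    · obtain ⟨f, hf⟩ := hf4
      refine le_trans (card_classes_le_of_reps [1, t, s, f, x, x⁻¹] fun g => ?_) (by simp)
      rcases hord g with hg | hg | hg | hg | hg
      · exact ⟨1, by simp, by rw [orderOf_eq_one_iff.1 hg]⟩
      · exact ⟨t, by simp, h2 t g ht hg⟩
      · exact ⟨s, by simp, h3 s g hs hg⟩
      · exact ⟨f, by simp, h4 f g hf hg⟩
      · rcases hx7 g hg with h' | h'
        · exact ⟨x, by simp, h'⟩
        · exact ⟨x⁻¹, by simp, h'⟩
    · refine le_trans (card_classes_le_of_reps [1, t, s, x, x⁻¹] fun g => ?_) (by simp)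
      rcases hord g with hg | hg | hg | hg | hg
      · exact ⟨1, by simp, by rw [orderOf_eq_one_iff.1 hg]⟩
      · exact ⟨t, by simp, h2 t g ht hg⟩
      · exact ⟨s, by simp, h3 s g hs hg⟩
      · exact absurd ⟨g, hg⟩ hf4
      · rcases hx7 g hg with h' | h'
        · exact ⟨x, by simp, h'⟩
        · exact ⟨x⁻¹, by simp, h'⟩
  · obtain ⟨e⟩ := Cfsg.Agent.S0497.result h
    exact (card_classes_le_of_alternating e repsSix repsSix_spec).trans (by decide)

end CfsgLib.Spor.NineClasses
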