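import Cfsg.Agent.Lib.Spor.NineClasses.Vec
import Cfsg.Agent.Lib.Recog.TwoR.Consumers.Models

/-!
# No element of `PSL₃(4)` has a centraliser of order eight
-/

set_option autoImplicit false

open Subgroup Matrix

namespace CfsgLib.Spor.NineClasses

variable {F : Type*} [Field F] [Fintype F]

/-- The upper unitriangular matrix with entries `a`, `b`, `c`. -/
def uni (v : F × F × F) : Matrix.SpecialLinearGroup (Fin 3) F :=
  ⟨!![1, v.1, v.2.1; 0, 1, v.2.2; 0, 0, 1], by simp [Matrix.det_fin_three]⟩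

theorem uni_mul (v w : F × F × F) :
    uni v * uni w = uni (v.1 + w.1, v.2.1 + w.2.1 + v.1 * w.2.2, v.2.2 + w.2.2) := by
  ext i j
  change ((uni v).1 * (uni w).1) i j = _
  fin_cases i <;> fin_cases j <;>
    simp [uni, Matrix.mul_apply, Fin.sum_univ_three] <;> ring

theorem uni_injective : Function.Injective (uni (F := F)) := by
  intro v w h
  have h' := congrArg Subtype.val h
  have h01 := congrFun (congrFun h' 0) 1
  have h02 := congrFun (congrFun h' 0) 2
  have h12 := congrFun (congrFun h' 1) 2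
  simp [uni] at h01 h02 h12
  exact Prod.ext h01 (Prod.ext h02 h12)

theorem uni_zero : uni ((0 : F), (0 : F), (0 : F)) = 1 := by
  ext i j
  fin_cases i <;> fin_cases j <;> simp [uni]

/-- The image of `uni` as a subgroup. -/
def uniGroup : Subgroup (Matrix.SpecialLinearGroup (Fin 3) F) where
  carrier := Set.range uni
  one_mem' := ⟨_, uni_zero⟩
  mul_mem' := by
    rintro _ _ ⟨v, rfl⟩ ⟨w, rfl⟩
    exact ⟨_, (uni_mul v w).symm⟩
  inv_mem' := by
    rintro _ ⟨v, rfl⟩
    refine ⟨(-v.1, -v.2.1 + v.1 * v.2.2, -v.2.2), (inv_eq_of_mul_eq_one_right ?_).symm⟩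
    rw [uni_mul, ← uni_zero]
    congr 1
    ext <;> simp

theorem mk_uni_injective :
    Function.Injective fun v : F × F × F =>
      QuotientGroup.mk' (center (Matrix.SpecialLinearGroup (Fin 3) F)) (uni v) := by
  intro v w h
  rw [QuotientGroup.mk'_eq_mk'] at h
  obtain ⟨z, hz, hvw⟩ := h
  obtain ⟨r, -, hr⟩ := Matrix.SpecialLinearGroup.mem_center_iff.1 hz
  have hr1 : r = 1 := by
    have h' := congrFun (congrFun (congrArg Subtype.val hvw) 2) 2
    change ((uni v).1 * z.1) 2 2 = (uni w).1 2 2 at h'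
    rw [← hr] at h'
    simp [uni, Matrix.mul_apply, Fin.sum_univ_three] at h'
    exact h'
  apply uni_injective
  rw [← hvw]
  have hz1 : z = 1 := Subtype.ext (by rw [← hr, hr1]; simp)
  rw [hz1, mul_one]

theorem cord_ne_eight {G : Type*} [Group G] [Finite G] (hF : Fintype.card F = 4)
    (e : G ≃* Matrix.ProjectiveSpecialLinearGroup (Fin 3) F) (x : G) : cord x ≠ 8 := by
  classical
  haveI : Fact (Nat.Prime 2) := ⟨Nat.prime_two⟩
  intro hx
  have hG : Nat.card G = 20160 :=
    (Nat.card_congr e.toEquiv).trans (CfsgLib.Recog.TwoR.Cons.card_psl_three_four hF)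
  let π : Matrix.SpecialLinearGroup (Fin 3) F →* G :=
    e.symm.toMonoidHom.comp (QuotientGroup.mk' (center (Matrix.SpecialLinearGroup (Fin 3) F)))
  have hπ : Function.Injective fun v : F × F × F => π (uni v) :=
    e.symm.injective.comp mk_uni_injective
  set U := (uniGroup (F := F)).map π with hU
  have hUset : (U : Set G) = Set.range fun v : F × F × F => π (uni v) := by
    rw [hU, Subgroup.coe_map]
    exact (Set.range_comp π uni).symm
  have hUc : Nat.card U = 64 := by
    have h1 : Nat.card U = Nat.card (U : Set G) := rfl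
    rw [h1, hUset, Nat.card_range_of_injective hπ, Nat.card_eq_fintype_card, Fintype.card_prod,
      Fintype.card_prod, hF]
  obtain ⟨S, hS⟩ := (IsPGroup.of_card (p := 2) (n := 6) hUc).exists_le_sylow
  have hSU : U = (S : Subgroup G) := by
    refine Subgroup.eq_of_le_of_card_ge hS ?_
    rw [hUc]
    obtain ⟨k, hk⟩ := IsPGroup.iff_card.1 S.2
    rw [hk]
    have hd : 2 ^ k ∣ 20160 := hG ▸ hk ▸ card_subgroup_dvd_card _
    have h20 : 20160 = 2 ^ 6 * 315 := by norm_num
    rw [h20] at hd
    have := Nat.Coprime.dvd_of_dvd_mul_right (Nat.Coprime.pow_left k (by norm_num)) hd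
    exact Nat.le_of_dvd (by norm_num) this
  have hxp : IsPGroup 2 (zpowers x) := by
    obtain ⟨k, -, hk⟩ := (Nat.dvd_prime_pow Nat.prime_two).1
      (show orderOf x ∣ 2 ^ 3 by have h8 := orderOf_dvd_cord x; rwa [hx] at h8)
    exact IsPGroup.of_card (n := k) (by rw [Nat.card_zpowers, hk])
  obtain ⟨Q, hQ⟩ := hxp.exists_le_sylow
  obtain ⟨g, hg⟩ := MulAction.exists_smul_eq G Q S
  have hmem : g * x * g⁻¹ ∈ U := by
    rw [hSU, ← hg, Sylow.coe_subgroup_smul]
    exact Subgroup.mem_map.2 ⟨x, hQ (mem_zpowers x), rfl⟩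
  obtain ⟨⟨a, b, c⟩, hy⟩ : ∃ v, π (uni v) = g * x * g⁻¹ := by
    have : g * x * g⁻¹ ∈ (U : Set G) := hmem
    rwa [hUset] at this
  have h16 : 16 ≤ cord (π (uni (a, b, c))) := by
    obtain ⟨φ, hφ, hcom⟩ : ∃ φ : F × F → F × F × F, Function.Injective φ ∧
        ∀ w, Commute (uni (a, b, c)) (uni (φ w)) := by
      by_cases ha : a = 0 ∧ c = 0
      · obtain ⟨rfl, rfl⟩ := ha
        refine ⟨fun w => (w.1, w.2, 0), fun w z h => ?_, fun w => ?_⟩
        · simp only [Prod.mk.injEq] at h
          exact Prod.ext h.1 h.2.1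
        · rw [Commute, SemiconjBy, uni_mul, uni_mul]
          congr 1
          simp [add_comm]
      · refine ⟨fun w => (w.1 * a, w.2, w.1 * c), fun w z h => ?_, fun w => ?_⟩
        · simp only [Prod.mk.injEq] at h
          refine Prod.ext ?_ h.2.1
          by_cases ha0 : a = 0
          · exact mul_right_cancel₀ (fun hc0 => ha ⟨ha0, hc0⟩) h.2.2
          · exact mul_right_cancel₀ ha0 h.1
        · rw [Commute, SemiconjBy, uni_mul, uni_mul]
          congr 1
          ext <;> simp only <;> ring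
    have := Nat.card_le_card_of_injective
      (fun w : F × F => (⟨π (uni (φ w)), mem_centralizer_of_commute ((hcom w).map π)⟩ :
        centralizer ({π (uni (a, b, c))} : Set G)))
      fun w z h => hφ (hπ (congrArg Subtype.val h))
    rwa [Nat.card_eq_fintype_card, Fintype.card_prod, hF] at this
  rw [hy, ← cord_conj (isConj_iff.2 ⟨g, rfl⟩), hx] at h16
  omega

end CfsgLib.Spor.NineClasses
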