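import Cfsg.Agent.Lib.Spor.NineClasses.Cert
import Cfsg.Agent.Lib.Spor.NineClasses.Mixed
import Cfsg.Agent.Lib.Spor.NineClasses.Six
import Cfsg.Agent.Lib.Spor.NineClasses.Small
import Cfsg.Agent.Lib.Spor.NineClasses.ThreeFour
import Cfsg.Agent.Lib.Small.Orders3640
import Cfsg.Agent.S0498
import Cfsg.Agent.S0984
import Cfsg.Agent.S1011
import Cfsg.Agent.S2497
import Cfsg.Agent.S3280

/-!
# Simple groups with nine classes
-/

set_option autoImplicit false

open Subgroup

namespace CfsgLib.Spor.NineClasses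

variable {G : Type*} [Group G] [Finite G] [IsSimpleGroup G]

theorem prune_false (hG : ¬ IsMulCommutative G) {n : ℕ} (V : Vec G n) :
    ∀ l₁ x l₂, V.cs = l₁ ++ x :: l₂ → prune l₁.reverse x = false := by
  intro l₁ x l₂ h
  have hany : anyMem (fun p => Nat.beq (x % p) 0 && !(Nat.beq x p) && scPrimes.elem p)
      l₁.reverse = false := by
    have aux : ∀ l : List ℕ, (∀ p ∈ l, p ∈ V.cs) →
        anyMem (fun p => Nat.beq (x % p) 0 && !(Nat.beq x p) && scPrimes.elem p) l = false := by
      intro l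
      induction l with
      | nil => intro; rfl
      | cons p l ih =>
        intro hl
        rw [show ∀ q : ℕ → Bool, anyMem q (p :: l) = (q p || anyMem q l) from fun _ => rfl,
          ih fun q hq => hl q (List.mem_cons_of_mem _ hq), Bool.or_false]
        by_contra hp
        simp only [Bool.not_eq_false, Bool.and_eq_true, Bool.not_eq_true', List.elem_eq_mem,
          decide_eq_true_eq] at hp
        obtain ⟨⟨h1, h2⟩, h3⟩ := hp
        have hpp := prime_of_mem_scPrimes h3
        obtain ⟨i, hi⟩ := V.mem_cs.1 (hl p List.mem_cons_self)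
        obtain ⟨j, hj⟩ := V.mem_cs.1 (show x ∈ V.cs by rw [h]; simp)
        have := ((prime_cord hpp (V.ne_one i) hi).2.2 _ (V.ne_one j)
          (by rw [hj]; exact Nat.dvd_of_mod_eq_zero (Nat.eq_of_beq_eq_true h1))).1
        rw [hj] at this
        rw [this, Nat.beq_refl] at h2
        exact Bool.noConfusion h2
    exact aux _ fun p hp => by rw [h]; simp [List.mem_reverse.1 hp]
  rw [prune, hany, Bool.false_or]
  by_contra hc
  simp only [Bool.not_eq_false, Bool.and_eq_true, List.elem_eq_mem, decide_eq_true_eq,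
    Nat.blt_eq] at hc
  obtain ⟨⟨-, h1⟩, h2⟩ := hc
  have hmem : x ∈ V.cs := by rw [h]; simp
  have := (pcOne_sound V hG (prime_of_mem_scPrimes h2)).2 hmem
  have hcount : l₁.reverse.count x + 1 ≤ V.cs.count x := by
    rw [h, List.count_append, List.count_reverse, List.count_cons_self]
    omega
  omega

omit [IsSimpleGroup G] in
theorem card_eq_of_cs {n : ℕ} (V : Vec G n) (h : V.cs = special) : Nat.card G = 20160 := by
  refine Nat.dvd_antisymm (V.dvd_of_forall_dvd ?_) ?_
  · rw [h]; decide
  · have : ∀ x ∈ special, x ∣ Nat.card G := by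
      intro x hx
      rw [← h] at hx
      obtain ⟨i, rfl⟩ := V.mem_cs.1 hx
      exact cord_dvd _
    have h5 := this 5 (by decide)
    have h7 := this 7 (by decide)
    have h9 := this 9 (by decide)
    have h64 := this 64 (by decide)
    have h35 : Nat.lcm (Nat.lcm 5 7) (Nat.lcm 9 64) ∣ Nat.card G :=
      Nat.lcm_dvd (Nat.lcm_dvd h5 h7) (Nat.lcm_dvd h9 h64)
    exact h35

theorem isPrimePow_of_special {n : ℕ} (V : Vec G n) (h : V.cs = special) (g : G) (hg : g ≠ 1) :
    IsPrimePow (orderOf g) := by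
  have hmem : cord g ∈ special := by
    rw [← h, ← V.cord_idx g hg]
    exact V.mem_cs.2 ⟨_, rfl⟩
  have hpp : IsPrimePow (cord g) := by
    simp only [special, List.mem_cons, List.not_mem_nil, or_false] at hmem
    rw [isPrimePow_nat_iff]
    rcases hmem with e | e | e | e | e | e | e | e <;> rw [e]
    exacts [⟨5, 1, by norm_num⟩, ⟨5, 1, by norm_num⟩, ⟨7, 1, by norm_num⟩, ⟨7, 1, by norm_num⟩,
      ⟨2, 3, by norm_num⟩, ⟨3, 2, by norm_num⟩, ⟨2, 4, by norm_num⟩, ⟨2, 6, by norm_num⟩]
  exact hpp.dvd (orderOf_dvd_cord g) fun e => hg (orderOf_eq_one_iff.1 e)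

theorem not_special (hG : ¬ IsMulCommutative G) {n : ℕ} (V : Vec G n) : V.cs ≠ special := by
  intro h
  have hL := card_eq_of_cs V h
  obtain ⟨i, hi⟩ := V.mem_cs.1 (show 8 ∈ V.cs by rw [h]; decide)
  rcases Cfsg.Agent.S2497.result hG (isPrimePow_of_special V h) with
    ⟨⟨e⟩⟩ | ⟨F, hF₁, hF₂, hF, ⟨e⟩⟩ | ⟨F, hF₁, hF₂, hF, ⟨e⟩⟩ |
    ⟨F, hF₁, hF₂, ⟨hF, ⟨e⟩⟩ | ⟨hF, ⟨e⟩⟩⟩
  · have := hL.symm.trans (Nat.card_congr e.toEquiv)
    rw [nat_card_alternatingGroup, Nat.card_fin] at this
    norm_num [Nat.factorial] at this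
  · have := hL.symm.trans (Nat.card_congr e.toEquiv)
    rw [CfsgLib.Classical.card_PSL_two, Nat.card_eq_fintype_card] at this
    simp only [Finset.mem_insert, Finset.mem_singleton] at hF
    rcases hF with hF | hF | hF | hF <;> rw [hF] at this <;> norm_num at this
  · exact cord_ne_eight hF e (V.rep i) hi
  · have H : CfsgLib.KnownA.Suzuki.TitsField F 4 :=
      CfsgLib.KnownA.Suzuki.titsField_of_card (m := 1) (by rw [hF]; norm_num)
    have := hL.symm.trans (Nat.card_congr e.toEquiv)
    rw [CfsgLib.KnownA.Suzuki.natCard_Sz H, hF] at this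
    norm_num at this
  · have H : CfsgLib.KnownA.Suzuki.TitsField F 8 :=
      CfsgLib.KnownA.Suzuki.titsField_of_card (m := 2) (by rw [hF]; norm_num)
    have := hL.symm.trans (Nat.card_congr e.toEquiv)
    rw [CfsgLib.KnownA.Suzuki.natCard_Sz H, hF] at this
    norm_num at this

theorem card_cases (hG : ¬ IsMulCommutative G) (h : Nat.card (ConjClasses G) = 9)
    (h5 : ∀ g : G, 5 ≤ cord g) :
    Nat.card G = 504 ∨ Nat.card G = 1092 ∨ Nat.card G = 2520 := by
  obtain ⟨V⟩ := exists_vec (n := 8) h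
  have hgood := good_of_check check_eq_true V.length_cs Nat.card_pos
    (fun x hx => by obtain ⟨i, rfl⟩ := V.mem_cs.1 hx; exact cord_dvd _)
    (fun x hx => by obtain ⟨i, rfl⟩ := V.mem_cs.1 hx; exact h5 _)
    V.sorted_cs (fun K hK => V.dvd_of_forall_dvd hK) V.class_eq (prune_false hG V)
  simp only [good, pc_sound V hG, sq_sound V hG, six_sound hG V, mixed_sound V, Bool.not_true,
    Bool.or_false, Bool.or_eq_true, Bool.and_eq_true, Nat.blt_eq, beq_iff_eq] at hgood
  rcases hgood with ⟨hlt, hne⟩ | hsp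
  · have hlist := CfsgLib.Small.Below6000.card_simple_lt_6000 hG hlt
    simp only [List.mem_cons, List.not_mem_nil, or_false] at hlist
    rcases hlist with h' | h' | h' | h' | h' | h' | h' | h' | h' | h' | h'
    all_goals first
      | omega
      | (exfalso
         have := card_classes_le_seven (G := G) (by omega)
         omega)
      | (exfalso; revert hne; rw [h']; decide)
  · exact absurd hsp (not_special hG V)

end CfsgLib.Spor.NineClasses
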