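import Cfsg.Agent.Lib.Small.Basic

/-!
# Representatives of the non-trivial classes ordered by the orders of their centralisers
-/

set_option autoImplicit false

open Subgroup

namespace CfsgLib.Spor.NineClasses

variable {G : Type*} [Group G]

/-- The order of the centraliser of an element. -/
noncomputable def cord (g : G) : ℕ := Nat.card (centralizer ({g} : Set G))

theorem mem_centralizer_of_commute {g h : G} (H : Commute g h) :
    h ∈ centralizer ({g} : Set G) := mem_centralizer_singleton_iff.2 H.eq.symm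

theorem commute_of_mem_centralizer {g h : G} (H : h ∈ centralizer ({g} : Set G)) :
    Commute g h := (mem_centralizer_singleton_iff.1 H).symm

variable [Finite G]

theorem cord_pos (g : G) : 0 < cord g := Nat.card_pos

theorem cord_dvd (g : G) : cord g ∣ Nat.card G := card_subgroup_dvd_card _

theorem cord_conj {g h : G} (H : IsConj g h) : cord g = cord h := by
  obtain ⟨a, ha⟩ := isConj_iff.1 H
  refine Nat.card_congr ((MulAut.conj a).toEquiv.subtypeEquiv fun y => ?_)
  simp only [mem_centralizer_singleton_iff, MulEquiv.toEquiv_eq_coe, MulEquiv.coe_toEquiv,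
    MulAut.conj_apply]
  rw [← ha]
  constructor
  · intro h'
    rw [show a * y * a⁻¹ * (a * g * a⁻¹) = a * (y * g) * a⁻¹ by group, h']; group
  · intro h'
    have := congrArg (fun z => a⁻¹ * z * a) h'
    simpa [mul_assoc] using this

theorem orderOf_dvd_cord (g : G) : orderOf g ∣ cord g := by
  rw [← Nat.card_zpowers]
  exact card_dvd_of_le (zpowers_le.2 (mem_centralizer_of_commute (Commute.refl g)))

theorem centralizer_le_of_pow (g : G) (k : ℕ) :
    centralizer ({g} : Set G) ≤ centralizer ({g ^ k} : Set G) := fun _ hy =>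
  mem_centralizer_of_commute ((commute_of_mem_centralizer hy).pow_left k)

theorem cord_dvd_cord_pow (g : G) (k : ℕ) : cord g ∣ cord (g ^ k) :=
  card_dvd_of_le (centralizer_le_of_pow g k)

theorem orderOf_conj {g h : G} (H : IsConj g h) : orderOf g = orderOf h := by
  obtain ⟨a, rfl⟩ := isConj_iff.1 H
  exact ((MulAut.conj a).orderOf_eq g).symm

/-- The number of conjugates of an element. -/
theorem card_isConj (g : G) : Nat.card {y : G // IsConj g y} = Nat.card G / cord g := by
  classical
  have : Fintype G := Fintype.ofFinite G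
  have h := ConjClasses.card_carrier g
  rw [← Nat.card_eq_fintype_card, ← Nat.card_eq_fintype_card, ← Nat.card_eq_fintype_card] at h
  have hs : Nat.card (MulAction.stabilizer (ConjAct G) g) = cord g := by
    refine Nat.card_congr (ConjAct.ofConjAct.toEquiv.subtypeEquiv fun a => ?_)
    rw [MulAction.mem_stabilizer_iff, ConjAct.smul_def, mem_centralizer_singleton_iff,
      mul_inv_eq_iff_eq_mul]
    rfl
  rw [hs] at h
  refine Eq.trans (Nat.card_congr (Equiv.subtypeEquivRight fun y => ?_)) h
  rw [ConjClasses.mem_carrier_iff_mk_eq, ConjClasses.mk_eq_mk_iff_isConj]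
  exact ⟨IsConj.symm, IsConj.symm⟩

/-- A central element of order `p` of a Sylow `p`-subgroup. -/
theorem exists_central {p : ℕ} (hp : p.Prime) (hd : p ∣ Nat.card G) :
    ∃ z : G, orderOf z = p ∧ ∀ k, p ^ k ∣ Nat.card G → p ^ k ∣ cord z := by
  haveI : Fact p.Prime := ⟨hp⟩
  obtain ⟨P⟩ : Nonempty (Sylow p G) := inferInstance
  haveI : Nontrivial (P : Subgroup G) := (Subgroup.nontrivial_iff_ne_bot _).2
    (P.ne_bot_of_dvd_card hd)
  obtain ⟨w, hw⟩ := exists_prime_orderOf_dvd_card' (G := center (P : Subgroup G)) p (by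
    have := P.2.center_nontrivial
    obtain ⟨m, hm0, hm⟩ := (P.2.to_subgroup (center (P : Subgroup G))).nontrivial_iff_card.1 this
    rw [hm]; exact dvd_pow_self p (by omega))
  refine ⟨((w : (P : Subgroup G)) : G), by rw [Subgroup.orderOf_coe, Subgroup.orderOf_coe, hw],
    fun k hk => ?_⟩
  refine dvd_trans (P.pow_dvd_card_of_pow_dvd_card hk) (card_dvd_of_le ?_)
  exact fun y hy => mem_centralizer_of_commute
    (congrArg Subtype.val ((Subgroup.mem_center_iff.1 w.2) ⟨y, hy⟩)).symm

/-- Representatives of the non-trivial classes. -/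
structure Vec (G : Type*) [Group G] (n : ℕ) where
  rep : Fin n → G
  ne_one : ∀ i, rep i ≠ 1
  inj : ∀ i j, IsConj (rep i) (rep j) → i = j
  surj : ∀ g : G, g ≠ 1 → ∃ i, IsConj (rep i) g
  mono : ∀ i j, i ≤ j → cord (rep i) ≤ cord (rep j)

theorem exists_vec {n : ℕ} (h : Nat.card (ConjClasses G) = n + 1) : Nonempty (Vec G n) := by
  classical
  have : Fintype (ConjClasses G) := Fintype.ofFinite _
  have hc : Fintype.card {C : ConjClasses G // C ≠ ConjClasses.mk 1} = n := by
    rw [Fintype.card_subtype_compl, Fintype.card_subtype_eq, ← Nat.card_eq_fintype_card, h]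
    rfl
  obtain ⟨e⟩ : Nonempty ({C : ConjClasses G // C ≠ ConjClasses.mk 1} ≃ Fin n) :=
    ⟨(Fintype.equivFin _).trans (finCongr hc)⟩
  choose f hf using fun C : ConjClasses G => ConjClasses.mk_surjective C
  let r : Fin n → G := fun i => f (e.symm i).1
  have hr : ∀ i, ConjClasses.mk (r i) = (e.symm i).1 := fun i => hf _
  let σ := Tuple.sort fun i => cord (r i)
  refine ⟨⟨fun i => r (σ i), fun i hi => ?_, fun i j hij => ?_, fun g hg => ?_, fun i j hij => ?_⟩⟩
  · have := hr (σ i)
    rw [hi] at this
    exact (e.symm (σ i)).2 this.symm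
  · have := ConjClasses.mk_eq_mk_iff_isConj.2 hij
    rw [hr, hr] at this
    exact σ.injective (e.symm.injective (Subtype.ext this))
  · have hne : ConjClasses.mk g ≠ ConjClasses.mk 1 := fun h' =>
      hg (isConj_one_left.1 (ConjClasses.mk_eq_mk_iff_isConj.1 h'))
    refine ⟨σ.symm (e ⟨_, hne⟩), ConjClasses.mk_eq_mk_iff_isConj.1 ?_⟩
    simp [hr]
  · exact Tuple.monotone_sort (fun i => cord (r i)) hij

namespace Vec

variable {n : ℕ} (V : Vec G n)

/-- The vector of centraliser orders. -/
noncomputable def cs : List ℕ := List.ofFn fun i => cord (V.rep i)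

theorem length_cs : V.cs.length = n := by simp [cs]

theorem mem_cs {x : ℕ} : x ∈ V.cs ↔ ∃ i, cord (V.rep i) = x := by simp [cs, List.mem_ofFn]

theorem getD_cs (i : Fin n) : V.cs.getD i 0 = cord (V.rep i) := by
  simp [cs, List.getD_eq_getElem?_getD]

theorem countP_cs (P : ℕ → Bool) :
    V.cs.countP P = Nat.card {i : Fin n // P (cord (V.rep i)) = true} := by
  rw [cs, List.ofFn_eq_map, List.countP_map, Nat.card_eq_fintype_card, Fintype.card_subtype,
    List.countP_eq_length_filter, ← List.toFinset_finRange, List.filter_toFinset,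
    List.toFinset_card_of_nodup ((List.nodup_finRange n).filter _)]
  simp [Function.comp_def]

/-- The class of a non-trivial element. -/
noncomputable def idx (g : G) (hg : g ≠ 1) : Fin n := (V.surj g hg).choose

theorem isConj_idx (g : G) (hg : g ≠ 1) : IsConj (V.rep (V.idx g hg)) g :=
  (V.surj g hg).choose_spec

theorem cord_idx (g : G) (hg : g ≠ 1) : cord (V.rep (V.idx g hg)) = cord g :=
  cord_conj (V.isConj_idx g hg)

theorem orderOf_idx (g : G) (hg : g ≠ 1) : orderOf (V.rep (V.idx g hg)) = orderOf g :=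
  orderOf_conj (V.isConj_idx g hg)

theorem idx_eq_iff {g h : G} (hg : g ≠ 1) (hh : h ≠ 1) :
    V.idx g hg = V.idx h hh ↔ IsConj g h :=
  ⟨fun e => (V.isConj_idx g hg).symm.trans (e ▸ V.isConj_idx h hh),
    fun e => V.inj _ _ (((V.isConj_idx g hg).trans e).trans (V.isConj_idx h hh).symm)⟩

/-- The elements with a property invariant under conjugation, counted by classes. -/
theorem card_elems (P : G → Prop) [DecidablePred P] (hP : ∀ a b, IsConj a b → P a → P b)
    (h1 : ¬ P 1) :
    Nat.card {g : G // P g} =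
      ∑ i : Fin n, if P (V.rep i) then Nat.card G / cord (V.rep i) else 0 := by
  classical
  let f : (Σ i : {i : Fin n // P (V.rep i)}, {y : G // IsConj (V.rep i.1) y}) → {g : G // P g} :=
    fun z => ⟨z.2.1, hP _ _ z.2.2 z.1.2⟩
  have hf : Function.Bijective f := by
    constructor
    · rintro ⟨⟨i, hi⟩, y, hy⟩ ⟨⟨j, hj⟩, z, hz⟩ e
      obtain rfl : y = z := congrArg Subtype.val e
      obtain rfl : i = j := V.inj i j (hy.trans hz.symm)
      rfl
    · rintro ⟨g, hg⟩
      have hg1 : g ≠ 1 := fun e => h1 (e ▸ hg)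
      exact ⟨⟨⟨V.idx g hg1, hP _ _ (V.isConj_idx g hg1).symm hg⟩, g, V.isConj_idx g hg1⟩, rfl⟩
  rw [← Nat.card_eq_of_bijective f hf, Nat.card_sigma, ← Finset.sum_filter]
  simp only [card_isConj]
  exact (Finset.sum_subtype (Finset.univ.filter fun i => P (V.rep i)) (by simp)
    (fun i => Nat.card G / cord (V.rep i))).symm

include V in
/-- The class equation. -/
theorem class_eq : (V.cs.map (Nat.card G / ·)).sum + 1 = Nat.card G := by
  classical
  have : Fintype G := Fintype.ofFinite G
  have h := V.card_elems (fun g => g ≠ 1) (fun a b hab ha hb => ha ?_) (by simp)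
  · rw [cs, List.map_ofFn, List.sum_ofFn]
    simp only [Function.comp_apply]
    rw [Nat.card_eq_fintype_card, Fintype.card_subtype_compl, Fintype.card_subtype_eq,
      ← Nat.card_eq_fintype_card, Finset.sum_congr rfl (fun i _ => if_pos (V.ne_one i))] at h
    have := Nat.card_pos (α := G)
    omega
  · subst hb; exact isConj_one_left.1 hab

theorem sorted_cs : List.Pairwise (· ≤ ·) V.cs := by
  rw [cs, List.pairwise_ofFn]
  exact fun i j h => V.mono i j h.le

/-- The order of the group is the least common multiple of the centraliser orders. -/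
theorem dvd_of_forall_dvd {K : ℕ} (hK : ∀ x ∈ V.cs, x ∣ K) : Nat.card G ∣ K := by
  rw [Nat.dvd_iff_prime_pow_dvd_dvd]
  intro p k hp hdvd
  rcases Nat.eq_zero_or_pos k with rfl | hk
  · simp
  obtain ⟨z, hz, hzc⟩ := exists_central hp (dvd_trans (dvd_pow_self p hk.ne') hdvd)
  have hz1 : z ≠ 1 := by rintro rfl; rw [orderOf_one] at hz; exact hp.one_lt.ne hz
  refine dvd_trans (hzc k hdvd) ?_
  rw [← V.cord_idx z hz1]
  exact hK _ (V.mem_cs.2 ⟨_, rfl⟩)

end Vec

end CfsgLib.Spor.NineClasses
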