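import Cfsg.Agent.Lib.Spor.NineClasses.Defs
import Cfsg.Agent.Lib.Spor.NineClasses.Vec
import Cfsg.Agent.Lib.Small.Count
import Cfsg.Agent.Lib.Small.Order168

/-!
# Classes whose centralisers have prime or prime square order
-/

set_option autoImplicit false

open Subgroup

namespace CfsgLib.Spor.NineClasses

variable {G : Type*} [Group G] [Finite G]

theorem noDiv_sound (p : ℕ) : ∀ fuel d, noDiv p fuel d = true →
    ∀ m, d ≤ m → m * m ≤ p → ¬ m ∣ p := by
  intro fuel
  induction fuel with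
  | zero => intro d h; simp [noDiv] at h
  | succ f ih =>
    intro d h m hm hm2 hdvd
    rw [noDiv] at h
    split_ifs at h with h1 h2
    · have := Nat.mul_le_mul hm hm; omega
    · rcases eq_or_lt_of_le hm with rfl | hlt
      · exact h2 (by simp [Nat.dvd_iff_mod_eq_zero.1 hdvd])
      · exact ih _ h m hlt hm2 hdvd

theorem isP_sound {p : ℕ} (h : isP p = true) : p.Prime := by
  rw [isP, Bool.and_eq_true, Nat.ble_eq] at h
  refine Nat.prime_def_le_sqrt.2 ⟨h.1, fun m hm hs => noDiv_sound p _ 2 h.2 m hm ?_⟩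
  exact le_trans (Nat.mul_le_mul hs hs) (Nat.sqrt_le p)

/-- An element of order `p` in a group whose order `p²` divides has centraliser order divisible
by `p²`. -/
theorem sq_dvd_centralizer {p : ℕ} (hp : p.Prime) {x : G} (hx : orderOf x = p)
    (h2 : p ^ 2 ∣ Nat.card G) : p ^ 2 ∣ cord x := by
  haveI : Fact p.Prime := ⟨hp⟩
  have hxp : IsPGroup p (zpowers x) :=
    IsPGroup.of_card (n := 1) (by rw [Nat.card_zpowers, hx, pow_one])
  obtain ⟨S, hS⟩ := hxp.exists_le_sylow
  have hxS : x ∈ (S : Subgroup G) := hS (mem_zpowers x)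
  have hS2 := S.pow_dvd_card_of_pow_dvd_card h2
  by_cases hc : ∀ y ∈ (S : Subgroup G), Commute x y
  · exact hS2.trans (card_dvd_of_le fun y hy => mem_centralizer_of_commute (hc y hy))
  push Not at hc
  haveI : Nontrivial (S : Subgroup G) :=
    (Subgroup.nontrivial_iff_ne_bot _).2 (S.ne_bot_of_dvd_card
      (dvd_trans (dvd_pow_self p two_ne_zero) h2))
  set A := (S : Subgroup G) ⊓ centralizer ({x} : Set G) with hA
  have hAp : IsPGroup p A := S.2.to_le inf_le_left
  obtain ⟨k, hk⟩ := IsPGroup.iff_card.1 hAp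
  refine dvd_trans ?_ (card_dvd_of_le (inf_le_right : A ≤ centralizer ({x} : Set G)))
  rw [hk]
  refine pow_dvd_pow p ?_
  by_contra hlt
  push Not at hlt
  haveI := S.2.center_nontrivial
  obtain ⟨w, hw⟩ := exists_ne (1 : center (S : Subgroup G))
  have hwA : ((w : (S : Subgroup G)) : G) ∈ A := ⟨(w : (S : Subgroup G)).2,
    mem_centralizer_of_commute (congrArg Subtype.val (Subgroup.mem_center_iff.1 w.2 ⟨x, hxS⟩))⟩
  have hxA : zpowers x ≤ A := zpowers_le.2 ⟨hxS, mem_centralizer_of_commute (Commute.refl x)⟩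
  have hAx : zpowers x = A := Subgroup.eq_of_le_of_card_ge hxA (by
    rw [hk, Nat.card_zpowers, hx]
    exact le_trans (Nat.pow_le_pow_right hp.pos (show k ≤ 1 by omega)) (pow_one p).le)
  rw [← hAx] at hwA
  obtain ⟨y, hyS, hy⟩ := hc
  have hw1 : ((w : (S : Subgroup G)) : G) ≠ 1 := fun e => hw (Subtype.ext (Subtype.ext e))
  haveI : Fact (Nat.card (zpowers x)).Prime := ⟨by rw [Nat.card_zpowers, hx]; exact hp⟩
  rcases (zpowers ((w : (S : Subgroup G)) : G)).subgroupOf (zpowers x) |>.eq_bot_or_eq_top_of_prime_card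
    with h | h
  · rw [subgroupOf_eq_bot, disjoint_iff_inf_le] at h
    exact hw1 (mem_bot.1 (h ⟨mem_zpowers _, hwA⟩))
  · rw [subgroupOf_eq_top] at h
    obtain ⟨m, hm⟩ := mem_zpowers_iff.1 (h (mem_zpowers x))
    refine hy ?_
    rw [← hm]
    exact (Commute.zpow_right
      (congrArg Subtype.val (Subgroup.mem_center_iff.1 w.2 ⟨y, hyS⟩) : Commute y _) m).symm

theorem centralizer_eq_of_zpowers_eq {x y : G} (h : zpowers x = zpowers y) :
    centralizer ({x} : Set G) = centralizer ({y} : Set G) := by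
  rw [← centralizer_closure, ← zpowers_eq_closure, h, zpowers_eq_closure, centralizer_closure]

variable [IsSimpleGroup G]

/-- An element of prime order `p` with centraliser of order `p`. -/
theorem prime_cord {p : ℕ} (hp : p.Prime) {x : G} (hx : x ≠ 1) (hc : cord x = p) :
    orderOf x = p ∧ ¬ p ^ 2 ∣ Nat.card G ∧ ∀ y : G, y ≠ 1 → p ∣ cord y →
      cord y = p ∧ orderOf y = p := by
  haveI : Fact p.Prime := ⟨hp⟩
  have ho : orderOf x = p := by
    rcases (Nat.dvd_prime hp).1 (hc ▸ orderOf_dvd_cord x) with h | h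
    · exact absurd (orderOf_eq_one_iff.1 h) hx
    · exact h
  have hsq : ¬ p ^ 2 ∣ Nat.card G := fun h => by
    have := Nat.le_of_dvd (cord_pos x) (sq_dvd_centralizer hp ho h)
    rw [hc] at this
    nlinarith [hp.two_le]
  refine ⟨ho, hsq, fun y hy hd => ?_⟩
  obtain ⟨P, hP⟩ := (IsPGroup.of_card (p := p) (n := 1)
    (show Nat.card (zpowers x) = p ^ 1 by rw [Nat.card_zpowers, ho, pow_one])).exists_le_sylow
  obtain ⟨u, hu⟩ := exists_prime_orderOf_dvd_card' (G := centralizer ({y} : Set G)) p hd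
  have huo : orderOf (u : G) = p := by rw [Subgroup.orderOf_coe, hu]
  obtain ⟨Q, hQ⟩ := (IsPGroup.of_card (p := p) (n := 1)
    (show Nat.card (zpowers (u : G)) = p ^ 1 by rw [Nat.card_zpowers, huo, pow_one])).exists_le_sylow
  have hS : ∀ R : Sylow p G, Nat.card (R : Subgroup G) ≤ p := fun R => by
    obtain ⟨k, hk⟩ := IsPGroup.iff_card.1 R.2
    rw [hk]
    rcases Nat.lt_or_ge k 2 with h | h
    · exact le_trans (Nat.pow_le_pow_right hp.pos (show k ≤ 1 by omega)) (pow_one p).le
    · exact absurd (dvd_trans (dvd_trans (pow_dvd_pow p h) hk.symm.dvd)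
        (card_subgroup_dvd_card _)) hsq
  obtain ⟨g, hg⟩ := MulAction.exists_smul_eq G P Q
  have hP' : zpowers x = (P : Subgroup G) := Subgroup.eq_of_le_of_card_ge hP
    (by rw [Nat.card_zpowers, ho]; exact hS P)
  have hmem : (u : G) ∈ zpowers (g * x * g⁻¹) := by
    have h1 : (u : G) ∈ (Q : Subgroup G) := hQ (mem_zpowers _)
    rw [← hg, Sylow.coe_subgroup_smul, ← hP'] at h1
    obtain ⟨z, hz, hzu⟩ := Subgroup.mem_map.1 h1
    obtain ⟨m, rfl⟩ := mem_zpowers_iff.1 hz
    exact mem_zpowers_iff.2 ⟨m, by rw [← hzu]; simp [conj_zpow]⟩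
  have hz : zpowers (u : G) = zpowers (g * x * g⁻¹) :=
    Subgroup.eq_of_le_of_card_ge (zpowers_le.2 hmem) (by
      rw [Nat.card_zpowers, Nat.card_zpowers, huo,
        ← orderOf_conj (isConj_iff.2 ⟨g, rfl⟩), ho])
  have hcu : cord (u : G) = p := by
    rw [cord, centralizer_eq_of_zpowers_eq hz, ← cord, ← cord_conj (isConj_iff.2 ⟨g, rfl⟩), hc]
  have hyu : y ∈ centralizer ({(u : G)} : Set G) :=
    mem_centralizer_of_commute (commute_of_mem_centralizer u.2).symm
  have hcz : zpowers (u : G) = centralizer ({(u : G)} : Set G) :=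
    Subgroup.eq_of_le_of_card_ge (zpowers_le.2 (mem_centralizer_of_commute (Commute.refl _)))
      (by rw [Nat.card_zpowers, huo]; exact hcu.le)
  rw [← hcz] at hyu
  have hyz : zpowers y = zpowers (u : G) := by
    refine Subgroup.eq_of_le_of_card_ge (zpowers_le.2 hyu) ?_
    rw [Nat.card_zpowers, huo, Nat.card_zpowers]
    rcases (Nat.dvd_prime hp).1 (huo ▸ (orderOf_dvd_of_mem_zpowers hyu)) with h | h
    · exact absurd (orderOf_eq_one_iff.1 h) hy
    · exact h.ge
  refine ⟨by rw [cord, centralizer_eq_of_zpowers_eq hyz]; exact hcu, ?_⟩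
  rw [← Nat.card_zpowers, hyz, Nat.card_zpowers, huo]

variable {n : ℕ} (V : Vec G n)

theorem mem_bigDivisors {e d : ℕ} (h : d ∈ bigDivisors e) : 2 ≤ d ∧ d ∣ e := by
  simp [bigDivisors, List.mem_filter] at h
  exact ⟨h.2.1, Nat.dvd_of_mod_eq_zero h.2.2⟩

theorem pcOne_sound (hG : ¬ IsMulCommutative G) {p : ℕ} (hp : p.Prime) :
    pcOne p V.cs (Nat.card G) = true ∧ (p ∈ V.cs → 2 * V.cs.count p ≤ p - 1) := by
  classical
  haveI : Fact p.Prime := ⟨hp⟩
  by_cases hs : p ∈ V.cs
  swap
  · simp [pcOne, List.count_eq_zero.2 hs, hs]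
  obtain ⟨i0, hi0⟩ := V.mem_cs.1 hs
  obtain ⟨ho, hsq, hall⟩ := prime_cord hp (V.ne_one i0) hi0
  set s := V.cs.count p with hsdef
  have hs' : s = Nat.card {i : Fin n // cord (V.rep i) = p} := by
    rw [hsdef, List.count, V.countP_cs]; simp
  have hs0 : 0 < s := List.count_pos_iff.2 hs
  have hP : ∀ P : Sylow p G, Nat.card (P : Subgroup G) = p := by
    intro P
    obtain ⟨k, hk⟩ := IsPGroup.iff_card.1 P.2
    have hd : p ^ 1 ∣ Nat.card G := by rw [pow_one, ← hi0]; exact cord_dvd _
    have h1 := P.pow_dvd_card_of_pow_dvd_card hd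
    rw [hk, Nat.pow_dvd_pow_iff_le_right hp.one_lt] at h1
    rw [hk]
    rcases Nat.lt_or_ge k 2 with h | h
    · rw [show k = 1 by omega, pow_one]
    · exact absurd (dvd_trans (dvd_trans (pow_dvd_pow p h) hk.symm.dvd)
        (card_subgroup_dvd_card _)) hsq
  obtain ⟨P, hxP⟩ := (IsPGroup.of_card (p := p) (n := 1)
    (show Nat.card (zpowers (V.rep i0)) = p ^ 1 by rw [Nat.card_zpowers, ho, pow_one])).exists_le_sylow
  have hPx : zpowers (V.rep i0) = (P : Subgroup G) :=
    Subgroup.eq_of_le_of_card_ge hxP (by rw [Nat.card_zpowers, ho, hP P])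
  have hCP : centralizer ((P : Subgroup G) : Set G) = centralizer ({V.rep i0} : Set G) := by
    rw [← hPx, zpowers_eq_closure, centralizer_closure]
  have hCc : Nat.card (centralizer ((P : Subgroup G) : Set G)) = p := by rw [hCP]; exact hi0
  obtain ⟨e, he1, hed, heN⟩ := CfsgLib.Small.exists_normalizer_centralizer hG P (hP P)
  rw [hCc] at heN
  have hNn := CfsgLib.Small.card_normalizer_mul P
  have hn1 := CfsgLib.Small.one_lt_card_sylow hG
    (show p ∣ Nat.card G from hP P ▸ card_subgroup_dvd_card _)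
  set N := Nat.card (Sylow p G) with hN
  have hL : Nat.card G = N * (p * e) := by rw [← hNn, ← heN]; ring
  -- elements of order `p`
  have hcount : s * (Nat.card G / p) = N * (p - 1) := by
    rw [hN, ← CfsgLib.Small.card_orderOf_eq_prime hP,
      V.card_elems (fun g => orderOf g = p) (fun a b hab h => orderOf_conj hab ▸ h)
        (by rw [orderOf_one]; exact hp.one_lt.ne), hs', Nat.card_eq_fintype_card,
      Fintype.card_subtype, ← Finset.sum_filter]
    have hset : (Finset.univ.filter fun i => orderOf (V.rep i) = p) =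
        Finset.univ.filter fun i => cord (V.rep i) = p := by
      refine Finset.filter_congr fun i _ => ⟨fun h => ?_, fun h => ?_⟩
      · exact (hall _ (V.ne_one i) (h ▸ orderOf_dvd_cord _)).1
      · exact (hall _ (V.ne_one i) h.symm.dvd).2
    rw [hset, Finset.sum_congr rfl (fun i hi => by rw [(Finset.mem_filter.1 hi).2]),
      Finset.sum_const, smul_eq_mul]
  rw [hL, show N * (p * e) = p * (N * e) by ring, Nat.mul_div_cancel_left _ hp.pos] at hcount
  have hse : s * e = p - 1 := by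
    have : N * (s * e) = N * (p - 1) := by rw [← hcount]; ring
    exact Nat.eq_of_mul_eq_mul_left (by omega) this
  have hdiv : (p - 1) / s = e := by rw [← hse, Nat.mul_div_cancel_left _ hs0]
  have hmult : 2 * s ≤ p - 1 := by rw [← hse, mul_comm 2]; exact Nat.mul_le_mul_left s he1
  refine ⟨?_, fun _ => hmult⟩
  -- an element of order `e`
  set Nr := normalizer ((P : Subgroup G) : Set G) with hNr
  haveI : IsCyclic (P : Subgroup G) := isCyclic_of_prime_card (hP P)
  let f : Nr →* MulAut (P : Subgroup G) := (P : Subgroup G).normalizerMonoidHom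
  have hrange : Nat.card f.range = e := by
    have h1 : Nat.card f.ker = p := by
      rw [normalizerMonoidHom_ker, Nat.card_congr
        (subgroupOfEquivOfLe (centralizer_le_normalizer _)).toEquiv, hCc]
    have h2 := f.ker.card_mul_index
    rw [index_ker, h1, ← heN] at h2
    exact Nat.eq_of_mul_eq_mul_left hp.pos h2
  haveI : IsCyclic (MulAut (P : Subgroup G)) := by
    haveI : Fact (Nat.card (P : Subgroup G)).Prime := ⟨by rw [hP P]; exact hp⟩
    haveI : IsCyclic (ZMod (Nat.card (P : Subgroup G)))ˣ := ZMod.isCyclic_units_prime Fact.out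
    exact isCyclic_of_surjective _ (IsCyclic.mulAutMulEquiv (P : Subgroup G)).symm.surjective
  obtain ⟨⟨γ, w, rfl⟩, hγ⟩ := IsCyclic.exists_ofOrder_eq_natCard (α := f.range)
  rw [hrange, ← Subgroup.orderOf_coe] at hγ
  have hwe : e ∣ orderOf (w : G) := by
    rw [Subgroup.orderOf_coe, ← hγ]; exact orderOf_map_dvd f w
  set v := (w : G) ^ (orderOf (w : G) / e) with hv
  have hvo : orderOf v = e := orderOf_pow_orderOf_div (orderOf_pos _).ne' hwe
  have hbig : (bigDivisors e).length ≤ V.cs.countP fun x => x % e == 0 := by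
    have hel : ∀ d ∈ bigDivisors e, orderOf (v ^ (e / d)) = d ∧ e ∣ cord (v ^ (e / d)) := by
      intro d hd
      obtain ⟨-, hde⟩ := mem_bigDivisors hd
      refine ⟨hvo ▸ orderOf_pow_orderOf_div (orderOf_pos _).ne' (hvo.symm ▸ hde), ?_⟩
      exact dvd_trans (hvo ▸ orderOf_dvd_cord v) (cord_dvd_cord_pow v _)
    have hne : ∀ d ∈ bigDivisors e, v ^ (e / d) ≠ 1 := fun d hd h => by
      have := (hel d hd).1
      rw [h, orderOf_one] at this
      have := (mem_bigDivisors hd).1
      omega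
    rw [V.countP_cs, ← List.toFinset_card_of_nodup
      (show (bigDivisors e).Nodup from List.nodup_range.filter _), ← Nat.card_eq_finsetCard]
    refine Nat.card_le_card_of_injective
      (fun d => ⟨V.idx _ (hne d.1 (List.mem_toFinset.1 d.2)), ?_⟩) ?_
    · rw [V.cord_idx, beq_iff_eq]
      exact Nat.mod_eq_zero_of_dvd (hel d.1 (List.mem_toFinset.1 d.2)).2
    · rintro ⟨d, hd⟩ ⟨d', hd'⟩ h
      have := congrArg (fun z : {i : Fin n // _} => orderOf (V.rep z.1)) h
      simp only [V.orderOf_idx] at this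
      rw [(hel d (List.mem_toFinset.1 hd)).1, (hel d' (List.mem_toFinset.1 hd')).1] at this
      exact Subtype.ext this
  have hL2 : Nat.card G / (p * e) = N := by
    rw [hL, Nat.mul_div_cancel _ (Nat.mul_pos hp.pos (by omega))]
  have hN1 : N % p = 1 := by
    have := card_sylow_modEq_one p G
    rw [← hN, Nat.ModEq, Nat.one_mod_eq_one.2 hp.one_lt.ne'] at this
    exact this
  have hall' : ∀ x ∈ V.cs, (x == p || !(x % p == 0)) = true := by
    intro x hx
    obtain ⟨i, rfl⟩ := V.mem_cs.1 hx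
    by_cases h : p ∣ cord (V.rep i)
    · simp [(hall _ (V.ne_one i) h).1]
    · simp [Nat.dvd_iff_mod_eq_zero.not.1 h]
  simp only [pcOne, ← hsdef, hdiv, hL2, Bool.or_eq_true, Bool.and_eq_true, beq_iff_eq,
    Nat.ble_eq]
  refine Or.inr ⟨⟨⟨⟨⟨⟨List.all_eq_true.2 hall', ?_⟩, he1⟩, ?_⟩, hn1⟩, hN1⟩, hbig⟩
  · rw [← hse]; exact Nat.mul_mod_right s e
  · rw [hL]; exact Nat.mul_mod_left N (p * e)

theorem pc_sound (hG : ¬ IsMulCommutative G) : pc V.cs (Nat.card G) = true := by
  rw [pc, List.all_eq_true]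
  intro p _
  by_cases h : isP p = true
  · simp [(pcOne_sound V hG (isP_sound h)).1]
  · simp [h]

theorem prime_of_mem_scPrimes {p : ℕ} (h : p ∈ scPrimes) : p.Prime := by
  simp only [scPrimes, List.mem_cons, List.not_mem_nil, or_false] at h
  rcases h with rfl | rfl | rfl | rfl | rfl | rfl | rfl | rfl | rfl | rfl | rfl | rfl | rfl | rfl |
    rfl | rfl | rfl | rfl | rfl | rfl | rfl | rfl | rfl <;> norm_num

theorem sqOne_sound (hG : ¬ IsMulCommutative G) {p : ℕ} (hp : p.Prime) :
    sqOne p V.cs (Nat.card G) = true := by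
  classical
  haveI : Fact p.Prime := ⟨hp⟩
  by_cases h : V.cs.count (p * p) = 1 ∧ (V.cs.countP fun x => x % p == 0) = 1
  swap
  · simp only [sqOne, Bool.or_eq_true, Bool.not_eq_true', Bool.and_eq_false_iff,
      beq_eq_false_iff_ne]
    exact Or.inl (not_and_or.1 h)
  obtain ⟨i, hi⟩ := V.mem_cs.1 (List.count_pos_iff.1 (by omega : 0 < V.cs.count (p * p)))
  have huniq : ∀ y : G, y ≠ 1 → p ∣ cord y → IsConj (V.rep i) y := by
    intro y hy hd
    have h2 := h.2
    rw [V.countP_cs, Nat.card_eq_one_iff_unique] at h2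
    have := @Subsingleton.elim _ h2.1 ⟨i, by rw [hi]; simp⟩ ⟨V.idx y hy, by
      rw [V.cord_idx]; simp [Nat.dvd_iff_mod_eq_zero.1 hd]⟩
    have he : i = V.idx y hy := congrArg Subtype.val this
    rw [he]
    exact V.isConj_idx y hy
  set x := V.rep i with hxdef
  set C := centralizer ({x} : Set G) with hCdef
  have hCc : Nat.card C = p ^ 2 := by rw [pow_two]; exact hi
  have h3 : ¬ p ^ 3 ∣ Nat.card G := fun h3 => by
    obtain ⟨z, hz, hzc⟩ := exists_central hp (dvd_trans (dvd_pow_self p (by norm_num)) h3)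
    have hz1 : z ≠ 1 := by rintro rfl; rw [orderOf_one] at hz; exact hp.one_lt.ne hz
    have := cord_conj (huniq z hz1 (dvd_trans (dvd_pow_self p (by norm_num)) (hzc 3 h3)))
    rw [hi] at this
    have h' := hzc 3 h3
    rw [← this, ← pow_two, Nat.pow_dvd_pow_iff_le_right hp.one_lt] at h'
    omega
  obtain ⟨P, hCP⟩ := (IsPGroup.of_card hCc).exists_le_sylow
  have hPC : (P : Subgroup G) = C := by
    refine (Subgroup.eq_of_le_of_card_ge hCP ?_).symm
    obtain ⟨k, hk⟩ := IsPGroup.iff_card.1 P.2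
    rw [hk, hCc]
    refine Nat.pow_le_pow_right hp.pos ?_
    by_contra hk3
    exact h3 (dvd_trans (dvd_trans (pow_dvd_pow p (show 3 ≤ k by omega)) hk.symm.dvd)
      (card_subgroup_dvd_card _))
  have hPc : Nat.card (P : Subgroup G) = p ^ 2 := by rw [hPC, hCc]
  haveI : IsMulCommutative (P : Subgroup G) := IsPGroup.isMulCommutative_of_card_eq_prime_sq hPc
  have hxP : x ∈ (P : Subgroup G) := by rw [hPC]; exact mem_centralizer_of_commute (Commute.refl x)
  set Nr := normalizer ((P : Subgroup G) : Set G) with hNr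
  have hCN : C ≤ Nr := hPC ▸ le_normalizer
  have horb : {y : G | ∃ m ∈ Nr, m * x * m⁻¹ = y} = ((P : Subgroup G) : Set G) \ {1} := by
    ext y
    simp only [Set.mem_setOf_eq, Set.mem_diff, SetLike.mem_coe, Set.mem_singleton_iff]
    constructor
    · rintro ⟨m, hm, rfl⟩
      exact ⟨(mem_normalizer_iff.1 hm x).1 hxP,
        fun e => V.ne_one i (conj_eq_one_iff.1 e)⟩
    · rintro ⟨hy, hy1⟩
      have hd : p ∣ cord y := by
        refine dvd_trans (dvd_pow_self p two_ne_zero) (hPc ▸ card_dvd_of_le ?_)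
        exact fun z hz => mem_centralizer_of_commute
          (congrArg Subtype.val (mul_comm' (⟨y, hy⟩ : (P : Subgroup G)) ⟨z, hz⟩))
      obtain ⟨g, hg⟩ := isConj_iff.1 (huniq y hy1 hd)
      obtain ⟨m, hm, hmx⟩ := P.conj_eq_normalizer_conj_of_mem x g⁻¹ hxP (by rw [inv_inv, hg]; exact hy)
      refine ⟨m⁻¹, inv_mem hm, ?_⟩
      rw [inv_inv, ← hmx, inv_inv, hg]
  have hrel : C.relIndex Nr = p ^ 2 - 1 := by
    have := ncard_conj' Nr x
    rw [horb, Set.ncard_diff_singleton_of_mem (one_mem _), ← Nat.card_coe_set_eq] at this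
    exact this.symm.trans (by rw [← hPc]; rfl)
  have hNc : Nat.card Nr = p ^ 2 * (p ^ 2 - 1) := by
    rw [← hrel, ← hCc, ← relIndex_bot_left C, relIndex_mul_relIndex _ _ _ bot_le hCN,
      relIndex_bot_left]
  have hNn := CfsgLib.Small.card_normalizer_mul P
  have hn1 := CfsgLib.Small.one_lt_card_sylow hG
    (show p ∣ Nat.card G from (dvd_pow_self p two_ne_zero).trans (hPc ▸ card_subgroup_dvd_card _))
  rw [← hNr, hNc] at hNn
  have hpos : 0 < p ^ 2 * (p ^ 2 - 1) := by rw [← hNc]; exact Nat.card_pos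
  simp only [sqOne, Bool.or_eq_true, Bool.and_eq_true, beq_iff_eq, Nat.ble_eq, ← pow_two, ← hNn]
  exact Or.inr ⟨Nat.mul_mod_right _ _, by rw [Nat.mul_div_cancel_left _ hpos]; exact hn1⟩
where
  ncard_conj' (H : Subgroup G) (x : G) : {y : G | ∃ m ∈ H, m * x * m⁻¹ = y}.ncard =
      (centralizer ({x} : Set G)).relIndex H := by
    let A : MulAction H G := MulAction.compHom G (ConjAct.toConjAct.toMonoidHom.comp H.subtype)
    have hsmul : ∀ (m : H) (y : G), m • y = (m : G) * y * (m : G)⁻¹ := fun m y => rfl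
    have horb : MulAction.orbit H x = {y : G | ∃ m ∈ H, m * x * m⁻¹ = y} := by
      ext y; simp [MulAction.mem_orbit_iff, hsmul]
    have hst : MulAction.stabilizer H x = (centralizer ({x} : Set G)).subgroupOf H := by
      ext m
      rw [MulAction.mem_stabilizer_iff, hsmul, mem_subgroupOf, mem_centralizer_singleton_iff,
        mul_inv_eq_iff_eq_mul]
    rw [← horb, relIndex, ← hst, MulAction.index_stabilizer]

theorem sq_sound (hG : ¬ IsMulCommutative G) : sq V.cs (Nat.card G) = true := by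
  rw [sq, List.all_eq_true]
  exact fun p hp => sqOne_sound V hG (prime_of_mem_scPrimes hp)

end CfsgLib.Spor.NineClasses
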